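import Groth.Agent.Hopf35.Stable
import Groth.Agent.Comod33.CartierReduced

/-!
Closedness of orbits along equivariant maps.
-/

set_option autoImplicit false

noncomputable section

universe u

open TensorProduct

namespace Groth.Agent.FinGrp34.OrbitMap

open Groth.Agent.Hopf35.Stable Groth.Agent.LinRed34

variable {k : Type u} [Field k] {A : Type u} [CommRing A] [HopfAlgebra k A]
  {R : Type u} [CommRing R] [Algebra k R] [HopfRep.Comod k A R] [GLin.IsCoactAlg k A R]
  {S : Type u} [CommRing S] [Algebra k S] [HopfRep.Comod k A S] [GLin.IsCoactAlg k A S]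

local notation "φ_" => GLin.orbitHom k A

variable (φ : S →ₐ[k] R)
  (hφ : ∀ s : S, HopfRep.Comod.coact (k := k) (A := A) (φ s) =
    Algebra.TensorProduct.map φ (AlgHom.id k A) (HopfRep.Comod.coact (k := k) (A := A) s))

include hφ in
theorem orbitHom_comp (x : R →ₐ[k] k) : φ_ (x.comp φ) = (φ_ x).comp φ := by
  refine AlgHom.ext fun s => ?_
  show (Algebra.TensorProduct.lid k A) (Algebra.TensorProduct.map (x.comp φ) (AlgHom.id k A)
      (HopfRep.Comod.coact (k := k) (A := A) s)) =
    (Algebra.TensorProduct.lid k A) (Algebra.TensorProduct.map x (AlgHom.id k A)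
      (HopfRep.Comod.coact (k := k) (A := A) (φ s)))
  rw [hφ]
  congr 1
  generalize HopfRep.Comod.coact (k := k) (A := A) s = t
  induction t using TensorProduct.induction_on with
  | zero => simp
  | tmul p q => simp
  | add p q hp hq => simp only [map_add, hp, hq]

include hφ in
theorem actPt_comp (g : A →ₐ[k] k) (x : R →ₐ[k] k) :
    (GLin.actPt k g x).comp φ = GLin.actPt k g (x.comp φ) := by
  show (g.comp (φ_ x)).comp φ = g.comp (φ_ (x.comp φ))
  rw [orbitHom_comp φ hφ, AlgHom.comp_assoc]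

include hφ in
theorem inOrbitClosure_comp {x z : R →ₐ[k] k} (h : GLin.InOrbitClosure k A x z) :
    GLin.InOrbitClosure k A (x.comp φ) (z.comp φ) := by
  intro s hs
  rw [orbitHom_comp φ hφ] at hs
  exact h (show φ s ∈ RingHom.ker (φ_ x) from hs)

include hφ in
/-- The image of a closed orbit under a finite map is closed. -/
theorem isClosedOrbit_map_of_integral (hint : φ.toRingHom.IsIntegral) {x : R →ₐ[k] k}
    (h : GLin.IsClosedOrbit k A x) : GLin.IsClosedOrbit k A (x.comp φ) := by
  unfold GLin.IsClosedOrbit at h ⊢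
  rw [orbitHom_comp φ hφ,
    show ((φ_ x).comp φ).toRingHom = (φ_ x).toRingHom.comp φ.toRingHom from rfl, PrimeSpectrum.comap_comp,
    Set.range_comp]
  exact PrimeSpectrum.isClosedMap_comap_of_isIntegral _ hint _ h

variable (A R) in
/-- The operator of a point of the group on functions. -/
def actHom (g : A →ₐ[k] k) : R →ₐ[k] R :=
  (Algebra.TensorProduct.rid k k R).toAlgHom.comp
    ((Algebra.TensorProduct.map (AlgHom.id k R) g).comp (GLin.coactAlgHom k A R))

theorem actHom_apply (g : A →ₐ[k] k) (f : R) : actHom A R g f = HopfRep.Comod.act k A R g f := by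
  rw [Comod33.act_eq_dact, Comod33.dact_apply]
  show (Algebra.TensorProduct.rid k k R)
    (Algebra.TensorProduct.map (AlgHom.id k R) g (HopfRep.Comod.coact (k := k) (A := A) f)) = _
  generalize HopfRep.Comod.coact (k := k) (A := A) f = t
  induction t using TensorProduct.induction_on with
  | zero => simp
  | tmul p q => simp [Comod33.rc]
  | add p q hp hq => simp only [map_add, hp, hq]

theorem actHom_bijective (g : A →ₐ[k] k) : Function.Bijective (actHom A R g) := by
  have key : ∀ g h : WithConv (A →ₐ[k] k), g * h = 1 → ∀ f, actHom A R g.ofConv (actHom A R h.ofConv f) = f :=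
    fun g h hgh f => by
      rw [actHom_apply, actHom_apply, ← Module.End.mul_apply, ← Comod33.act_mul, hgh, Comod33.act_one,
        Module.End.one_apply]
  exact ⟨Function.LeftInverse.injective (key _ (WithConv.toConv g) (inv_mul_cancel _)),
    Function.RightInverse.surjective (key (WithConv.toConv g) _ (mul_inv_cancel _))⟩

variable [IsAlgClosed k] [Algebra.FiniteType k A] [IsReduced A]

theorem orbitHom_actHom (g : A →ₐ[k] k) (x : R →ₐ[k] k) (f : R) :
    φ_ x (actHom A R g f) = transl g (φ_ x f) := by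
  rw [← sub_eq_zero]
  refine eq_zero_of_points (k := k) fun h => ?_
  rw [map_sub, apply_transl, sub_eq_zero, actHom_apply]
  show GLin.actPt k h x _ = GLin.actPt k (WithConv.toConv h * WithConv.toConv g).ofConv x f
  rw [← actPt_actPt, ← actPt_apply]

theorem ker_comap_actHom (g : A →ₐ[k] k) (x : R →ₐ[k] k) :
    RingHom.ker (φ_ x) ≤ (RingHom.ker (φ_ x)).comap (actHom A R g) := fun f hf => by
  rw [Ideal.mem_comap, RingHom.mem_ker, orbitHom_actHom, RingHom.mem_ker.1 hf, map_zero]

theorem exists_point_only {q : Ideal A} (hq : q ∈ minimalPrimes A) :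
    ∃ h : A →ₐ[k] k, q ≤ RingHom.ker h ∧ ∀ p ∈ minimalPrimes A, p ≤ RingHom.ker h → p = q := by
  classical
  haveI : IsNoetherianRing A := Algebra.FiniteType.isNoetherianRing k A
  haveI := hq.1.1
  let F := (minimalPrimes.finite_of_isNoetherianRing A).toFinset.erase q
  have h1 : ¬ F.inf id ≤ q := fun h => by
    obtain ⟨p, hp, hpq⟩ := (Ideal.IsPrime.inf_le' inferInstance).1 h
    obtain ⟨hne, hp⟩ := Finset.mem_erase.1 hp
    rw [Set.Finite.mem_toFinset] at hp
    exact hne (le_antisymm hpq (hq.2 ⟨hp.1.1, bot_le⟩ hpq))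
  obtain ⟨f, hfF, hfq⟩ := SetLike.not_le_iff_exists.1 h1
  obtain ⟨h, hh, hhf⟩ := exists_point_ne (k := k) q hfq
  refine ⟨h, fun a ha => RingHom.mem_ker.2 (hh a ha), fun p hp hle => ?_⟩
  by_contra hne
  exact hhf (RingHom.mem_ker.1 (hle (Finset.inf_le (s := F) (f := id)
    (Finset.mem_erase.2 ⟨hne, (Set.Finite.mem_toFinset _).2 hp⟩) hfF)))

theorem exists_transl {p q : Ideal A} (hp : p ∈ minimalPrimes A) (hq : q ∈ minimalPrimes A) :
    ∃ g : A →ₐ[k] k, p.comap (transl g) = q := by
  obtain ⟨h, hh, -⟩ := exists_point_only (k := k) hp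
  obtain ⟨h', hh', huniq⟩ := exists_point_only (k := k) hq
  let g := (((WithConv.toConv h)⁻¹ * WithConv.toConv h') : WithConv (A →ₐ[k] k)).ofConv
  refine ⟨g, huniq _ ?_ fun a ha => ?_⟩
  · have hbij : Function.Bijective (transl g : A →ₐ[k] A) := (translEquiv g).bijective
    haveI := hp.1.1
    refine ⟨⟨Ideal.comap_isPrime _ _, bot_le⟩, fun P hP hle => ?_⟩
    haveI := hP.1
    let e := (translEquiv g).toRingEquiv
    have h1 : P.comap e.symm.toRingHom ≤ p := fun a ha => by
      have := hle ha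
      rw [Ideal.mem_comap, show transl g (e.symm.toRingHom a) = a from e.apply_symm_apply a] at this
      exact this
    have h2 := hp.2 ⟨Ideal.comap_isPrime _ _, bot_le⟩ h1
    intro a ha
    have h3 : e.symm.toRingHom (e a) ∈ P := h2 ha
    rwa [show e.symm.toRingHom (e a) = a from e.symm_apply_apply a] at h3
  · have h0 : h (transl g a) = 0 := RingHom.mem_ker.1 (hh ha)
    rw [apply_transl, WithConv.toConv_ofConv, mul_inv_cancel_left, WithConv.ofConv_toConv] at h0
    exact RingHom.mem_ker.2 h0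

variable [Algebra.FiniteType k R]

/-- Mutual closure means the same orbit. -/
theorem inOrbit_of_mutual {x z : R →ₐ[k] k} (h : GLin.InOrbitClosure k A x z)
    (h' : GLin.InOrbitClosure k A z x) : InOrbit k A x z := by
  haveI : Nontrivial A := (Bialgebra.counitAlgHom k A).toRingHom.domain_nontrivial
  obtain ⟨m, hm, hmle⟩ := Ideal.exists_le_maximal _ (RingHom.ker_ne_top (φ_ x))
  haveI := hm.isPrime
  obtain ⟨P, hP, -⟩ := Ideal.exists_minimalPrimes_le hmle
  obtain ⟨f, hf, hdense⟩ := exists_dense x hP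
  have hle := ker_le_of_inOrbitClosure h
  have hle' := ker_le_of_inOrbitClosure h'
  obtain ⟨g, hg⟩ : ∃ g : A →ₐ[k] k, GLin.actPt k g z f ≠ 0 := by
    by_contra hc
    push Not at hc
    refine hf (hP.1.2 (hle' (mem_ker_orbitHom_iff.2 fun g => ?_)))
    rw [← actPt_apply]; exact hc g
  have hw : InOrbit k A z (GLin.actPt k g z) := ⟨g, rfl⟩
  exact (hdense _ (fun a ha => hw.inOrbitClosure (hle ha)) hg).trans hw.symm

variable [Algebra.FiniteType k S]

include hφ in
/-- Over a closed orbit of the target of a finite map, orbits are closed. -/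
theorem isClosedOrbit_of_integral (hint : φ.toRingHom.IsIntegral) {x : R →ₐ[k] k}
    (h : GLin.IsClosedOrbit k A (x.comp φ)) : GLin.IsClosedOrbit k A x := by
  haveI : IsNoetherianRing A := Algebra.FiniteType.isNoetherianRing k A
  haveI : IsNoetherianRing S := Algebra.FiniteType.isNoetherianRing k S
  rw [isClosedOrbit_iff] at h ⊢
  intro z₁ hz₁
  obtain ⟨g₁, hg₁⟩ := (h _ (inOrbitClosure_comp φ hφ hz₁)).symm
  -- normalise `z₁` to lie over the same point
  let z := GLin.actPt k g₁ z₁
  have hzo : InOrbit k A z₁ z := ⟨g₁, rfl⟩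
  have hz : GLin.InOrbitClosure k A x z := fun a ha => hzo.inOrbitClosure (ker_le_of_inOrbitClosure hz₁ ha)
  have hy : z.comp φ = x.comp φ := (actPt_comp φ hφ g₁ z₁).trans hg₁
  refine InOrbit.trans ?_ hzo.symm
  refine inOrbit_of_mutual hz fun a ha => ?_
  suffices hker : RingHom.ker (φ_ z) ≤ RingHom.ker (φ_ x) from inOrbitClosure_refl x (hker ha)
  clear ha a
  haveI : Nontrivial A := (Bialgebra.counitAlgHom k A).toRingHom.domain_nontrivial
  obtain ⟨m, hm, hmle⟩ := Ideal.exists_le_maximal _ (RingHom.ker_ne_top (φ_ z))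
  haveI := hm.isPrime
  obtain ⟨Q, hQ, -⟩ := Ideal.exists_minimalPrimes_le hmle
  haveI := hQ.1.1
  obtain ⟨qz, hqz, hQeq⟩ : ∃ q ∈ minimalPrimes A, q.comap (φ_ z) = Q := by
    obtain ⟨q, hq, -, hq'⟩ := Ideal.exists_comap_eq_of_mem_minimalPrimes (I := ⊥) (φ_ z).toRingHom Q hQ
    haveI := hq
    obtain ⟨q₀, hq₀, hle⟩ := Ideal.exists_minimalPrimes_le (I := (⊥ : Ideal A)) (J := q) bot_le
    haveI := hq₀.1.1
    have hle' : q₀.comap (φ_ z) ≤ Q := hq' ▸ Ideal.comap_mono hle
    refine ⟨q₀, hq₀, le_antisymm hle' (hQ.2 ⟨Ideal.comap_isPrime _ _, fun a ha => ?_⟩ hle')⟩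
    rw [Ideal.mem_comap, RingHom.mem_ker.1 ha]; exact zero_mem _
  obtain ⟨P, hP, hPQ⟩ := Ideal.exists_minimalPrimes_le ((ker_le_of_inOrbitClosure hz).trans hQ.1.2)
  haveI := hP.1.1
  obtain ⟨qx, hqx, hPeq⟩ : ∃ q ∈ minimalPrimes A, q.comap (φ_ x) = P := by
    obtain ⟨q, hq, -, hq'⟩ := Ideal.exists_comap_eq_of_mem_minimalPrimes (I := ⊥) (φ_ x).toRingHom P hP
    haveI := hq
    obtain ⟨q₀, hq₀, hle⟩ := Ideal.exists_minimalPrimes_le (I := (⊥ : Ideal A)) (J := q) bot_le
    haveI := hq₀.1.1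
    have hle' : q₀.comap (φ_ x) ≤ P := hq' ▸ Ideal.comap_mono hle
    refine ⟨q₀, hq₀, le_antisymm hle' (hP.2 ⟨Ideal.comap_isPrime _ _, fun a ha => ?_⟩ hle')⟩
    rw [Ideal.mem_comap, RingHom.mem_ker.1 ha]; exact zero_mem _
  have hcx : P.comap φ = qx.comap (φ_ (x.comp φ)) := by
    rw [← hPeq, orbitHom_comp φ hφ]; exact Ideal.comap_comap _ _
  have hcz : Q.comap φ = qz.comap (φ_ (x.comp φ)) := by
    rw [← hQeq, ← hy, orbitHom_comp φ hφ]; exact Ideal.comap_comap _ _
  obtain ⟨g, hg⟩ := exists_transl (k := k) hqx hqz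
  let σ : S ≃+* S := RingEquiv.ofBijective (actHom A S g) (actHom_bijective g)
  have hσ : Q.comap φ = (P.comap φ).comap σ := by
    rw [hcz, hcx, ← hg]
    ext s
    show transl g (φ_ (x.comp φ) s) ∈ qx ↔ φ_ (x.comp φ) (actHom A S g s) ∈ qx
    rw [orbitHom_actHom]
  have hSeq : P.comap φ = Q.comap φ := by
    refine (Ideal.comap_mono hPQ).eq_or_lt.resolve_right fun hlt => ?_
    haveI : (P.comap φ).IsPrime := Ideal.comap_isPrime _ _
    have h1 := Ideal.height_strict_mono_of_isPrime hlt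
    rw [hσ, RingEquiv.height_comap] at h1
    exact lt_irrefl _ h1
  have hPQeq : P = Q := by
    refine hPQ.eq_or_lt.resolve_right fun hlt => ?_
    letI := φ.toRingHom.toAlgebra
    haveI : Algebra.IsIntegral S R := ⟨hint⟩
    exact (Ideal.IsIntegral.comap_lt_comap hlt).ne hSeq
  intro f hf
  rw [RingHom.mem_ker]
  refine IsNilpotent.eq_zero ?_
  rw [← mem_nilradical, nilradical, ← Ideal.sInf_minimalPrimes, Submodule.mem_sInf]
  intro q hq
  obtain ⟨g', hg'⟩ := exists_transl (k := k) hqx hq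
  rw [← hg', Ideal.mem_comap, ← orbitHom_actHom]
  show actHom A R g' f ∈ qx.comap (φ_ x)
  rw [hPeq, hPQeq]
  exact hQ.1.2 (ker_comap_actHom g' z hf)

end Groth.Agent.FinGrp34.OrbitMap
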