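import Groth.Agent.S12933
import Mathlib.RingTheory.Flat.Basic
import Mathlib.RingTheory.Invariant.Basic
import Mathlib.RingTheory.TensorProduct.Maps

/-!
Action of a finite group on a base change, and its invariants.
-/

universe u v w

open TensorProduct

noncomputable section

namespace Groth.Agent.FinGrp34

variable (C : Type u) [CommRing C] (S : Type u) [CommRing S] [Algebra C S] (M : Type w) [CommRing M] [Algebra C M]
  (G : Type v) [Group G] [MulSemiringAction G M] [SMulCommClass G C M]

/-- the action on the base change, through the second factor -/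
@[instance_reducible] def bcAct : MulSemiringAction G (S ⊗[C] M) where
  smul g z := Algebra.TensorProduct.map (AlgHom.id S S) (MulSemiringAction.toAlgHom C M g) z
  one_smul z := by
    show Algebra.TensorProduct.map (AlgHom.id S S) (MulSemiringAction.toAlgHom C M (1 : G)) z = z
    induction z with
    | zero => simp
    | add p q hp hq => rw [map_add, hp, hq]
    | tmul p q => simp
  mul_smul g h z := by
    show Algebra.TensorProduct.map (AlgHom.id S S) (MulSemiringAction.toAlgHom C M (g * h)) z =
      Algebra.TensorProduct.map (AlgHom.id S S) (MulSemiringAction.toAlgHom C M g)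
        (Algebra.TensorProduct.map (AlgHom.id S S) (MulSemiringAction.toAlgHom C M h) z)
    induction z with
    | zero => simp
    | add p q hp hq => rw [map_add, map_add, map_add, hp, hq]
    | tmul p q => simp [mul_smul]
  smul_zero _ := map_zero _
  smul_add _ _ _ := map_add _ _ _
  smul_one _ := map_one _
  smul_mul _ _ _ := map_mul _ _ _

theorem bcAct_tmul (g : G) (s : S) (m : M) :
    (bcAct C S M G).toSMul.smul g (s ⊗ₜ[C] m) = s ⊗ₜ[C] (g • m) := by
  show Algebra.TensorProduct.map (AlgHom.id S S) (MulSemiringAction.toAlgHom C M g) (s ⊗ₜ[C] m) = _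
  simp

theorem bcAct_smulComm : @SMulCommClass G S (S ⊗[C] M) (bcAct C S M G).toSMul _ := by
  letI := bcAct C S M G
  exact ⟨fun g s z => map_smul (Algebra.TensorProduct.map (AlgHom.id S S) (MulSemiringAction.toAlgHom C M g)) s z⟩

/-- Flat base change of invariants. -/
theorem exists_of_fixed [Finite G] (N : Type w) [CommRing N] [Algebra C N] (i : N →ₐ[C] M)
    (hi : ∀ m : M, (∀ g : G, g • m = m) → ∃ n, i n = m) [Module.Flat C S] (z : S ⊗[C] M)
    (hz : ∀ g : G, (bcAct C S M G).toSMul.smul g z = z) :
    ∃ w : S ⊗[C] N, Algebra.TensorProduct.map (AlgHom.id S S) i w = z := by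
  have h := (S12933.result C M G S z).1 fun g => by
    refine Eq.trans ?_ (hz g)
    show _ = Algebra.TensorProduct.map (AlgHom.id S S) (MulSemiringAction.toAlgHom C M g) z
    clear hz
    induction z using TensorProduct.induction_on with
    | zero => simp
    | tmul p q => simp
    | add p q hp hq => rw [map_add, map_add, hp, hq]
  suffices h' : z ∈ LinearMap.range (Algebra.TensorProduct.map (AlgHom.id S S) i).toLinearMap from h'
  refine Submodule.span_le.2 ?_ h
  rintro _ ⟨m, hm, rfl⟩
  obtain ⟨n, rfl⟩ := hi m hm
  exact ⟨1 ⊗ₜ[C] n, by simp⟩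

end Groth.Agent.FinGrp34
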