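import Mathlib.RingTheory.Idempotents
import Mathlib.RingTheory.FiniteType
import Mathlib.RingTheory.Finiteness.Ideal
import Mathlib.RingTheory.Ideal.IdempotentFG
import Mathlib.RingTheory.Nilpotent.Basic
import Mathlib.RingTheory.Ideal.Quotient.Operations
import Mathlib.Algebra.Algebra.Subalgebra.Basic
import Mathlib.Tactic.LinearCombination

/-!
A section of an algebra that is unramified along it, onto a direct factor of the base, is cut out by an idempotent.
-/

universe u

namespace Groth.Agent.FinGrp34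

variable {B : Type u} [CommRing B] {T : Type u} [CommRing T] [Algebra B T]

theorem exists_section_idem [Algebra.FiniteType B T] {ε : B} (hε : IsIdempotentElem ε)
    (σ : T →ₐ[B] B ⧸ Ideal.span ({1 - ε} : Set B))
    (hu : ∀ (Q : Type u) [CommRing Q] [Algebra B Q] (f₁ f₂ : T →ₐ[B] Q) (N : Ideal Q), N ^ 2 = ⊥ →
      (∀ t, f₁ t - f₂ t ∈ N) → (∀ t, IsUnit (σ t) → IsUnit (f₁ t)) → f₁ = f₂) :
    ∃ e : T, IsIdempotentElem e ∧ σ e = 1 ∧ (∀ t : T, ∃ b : B, e * t = e * algebraMap B T b) ∧
      ∀ b : B, e * algebraMap B T b = 0 ↔ ε * b = 0 := by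
  classical
  have hσ : ∀ b : B, σ (algebraMap B T b) = Ideal.Quotient.mk _ b := fun b => AlgHom.commutes σ b
  have hmem : ∀ b : B, Ideal.Quotient.mk (Ideal.span ({1 - ε} : Set B)) b = 0 ↔ ε * b = 0 := by
    intro b
    rw [Ideal.Quotient.eq_zero_iff_mem, Ideal.mem_span_singleton']
    refine ⟨?_, fun h => ⟨b, by linear_combination -h⟩⟩
    rintro ⟨c, rfl⟩
    rw [← mul_assoc, mul_comm ε, mul_assoc, hε.mul_one_sub_self, mul_zero]
  set I : Ideal T := RingHom.ker σ with hIdef
  have hrep : ∀ t : T, ∃ b : B, t - algebraMap B T b ∈ I := fun t => by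
    obtain ⟨b, hb⟩ := Ideal.Quotient.mk_surjective (σ t)
    exact ⟨b, by rw [hIdef, RingHom.mem_ker, map_sub, hσ, hb, sub_self]⟩
  choose r hr using hrep
  have hεI : algebraMap B T (1 - ε) ∈ I := by
    rw [hIdef, RingHom.mem_ker, hσ, Ideal.Quotient.eq_zero_iff_mem]
    exact Ideal.mem_span_singleton_self _
  have hfg : I.FG := by
    obtain ⟨s, hs⟩ := Algebra.FiniteType.out (R := B) (A := T)
    refine ⟨insert (algebraMap B T (1 - ε)) (s.image fun t => t - algebraMap B T (r t)), le_antisymm ?_ ?_⟩
    · rw [Submodule.span_le]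
      intro z hz
      rcases Finset.mem_insert.1 (Finset.mem_coe.1 hz) with rfl | hz
      · exact hεI
      · obtain ⟨t, -, rfl⟩ := Finset.mem_image.1 hz
        exact hr t
    · intro z hz
      set J := Submodule.span T
        ((insert (algebraMap B T (1 - ε)) (s.image fun t => t - algebraMap B T (r t)) : Finset T) : Set T)
      have key : ∀ t : T, ∃ b : B, t - algebraMap B T b ∈ J := by
        intro t
        have ht : t ∈ Algebra.adjoin B (s : Set T) := hs ▸ Algebra.mem_top
        induction ht using Algebra.adjoin_induction with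
        | mem t ht => exact ⟨r t, Submodule.subset_span (by
            simp only [Finset.coe_insert, Finset.coe_image]
            exact Or.inr ⟨t, ht, rfl⟩)⟩
        | algebraMap b => exact ⟨b, by rw [sub_self]; exact J.zero_mem⟩
        | add a c _ _ ha hc =>
          obtain ⟨b, hb⟩ := ha
          obtain ⟨d, hd⟩ := hc
          exact ⟨b + d, by rw [map_add, add_sub_add_comm]; exact J.add_mem hb hd⟩
        | mul a c _ _ ha hc =>
          obtain ⟨b, hb⟩ := ha
          obtain ⟨d, hd⟩ := hc
          refine ⟨b * d, ?_⟩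
          rw [map_mul, show a * c - algebraMap B T b * algebraMap B T d =
            a • (c - algebraMap B T d) + algebraMap B T d • (a - algebraMap B T b) by simp only [smul_eq_mul]; ring]
          exact J.add_mem (J.smul_mem _ hd) (J.smul_mem _ hb)
      obtain ⟨b, hb⟩ := key z
      have hJI : J ≤ I := by
        rw [Submodule.span_le]
        intro z hz
        rcases Finset.mem_insert.1 (Finset.mem_coe.1 hz) with rfl | hz
        · exact hεI
        · obtain ⟨t, -, rfl⟩ := Finset.mem_image.1 hz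
          exact hr t
      have hb0 : Ideal.Quotient.mk (Ideal.span ({1 - ε} : Set B)) b = 0 := by
        have h := hJI hb
        rw [hIdef, RingHom.mem_ker, map_sub, RingHom.mem_ker.1 hz, zero_sub, neg_eq_zero, hσ] at h
        exact h
      obtain ⟨c, hc⟩ := Ideal.mem_span_singleton'.1 (Ideal.Quotient.eq_zero_iff_mem.1 hb0)
      have hbJ : algebraMap B T b ∈ J := by
        rw [← hc, map_mul, ← smul_eq_mul]
        exact J.smul_mem _ (Submodule.subset_span (by simp))
      have h := J.add_mem hb hbJ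
      rwa [sub_add_cancel] at h
  have hsq : IsIdempotentElem I := by
    refine le_antisymm Ideal.mul_le_right fun z hz => ?_
    rw [← pow_two]
    have hε2 : algebraMap B T (1 - ε) ∈ I ^ 2 := by
      have : algebraMap B T (1 - ε) = algebraMap B T (1 - ε) * algebraMap B T (1 - ε) := by
        rw [← map_mul, hε.one_sub.eq]
      rw [this, pow_two]
      exact Ideal.mul_mem_mul hεI hεI
    let f₁ : T →ₐ[B] T ⧸ I ^ 2 := Ideal.Quotient.mkₐ B _
    let g : (B ⧸ Ideal.span ({1 - ε} : Set B)) →ₐ[B] T ⧸ I ^ 2 :=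
      Ideal.Quotient.liftₐ _ (Algebra.ofId B _) fun b hb => by
        obtain ⟨c, rfl⟩ := Ideal.mem_span_singleton'.1 hb
        show Ideal.Quotient.mk (I ^ 2) (algebraMap B T (c * (1 - ε))) = 0
        rw [Ideal.Quotient.eq_zero_iff_mem, map_mul]
        exact Ideal.mul_mem_left _ _ hε2
    have heq := hu (T ⧸ I ^ 2) f₁ (g.comp σ) (I.map (Ideal.Quotient.mk (I ^ 2)))
      (by rw [← Ideal.map_pow, Ideal.map_quotient_self])
      (fun t => by
        have h1 : g (σ t) = Ideal.Quotient.mk (I ^ 2) (algebraMap B T (r t)) := by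
          have h2 : σ t = Ideal.Quotient.mk _ (r t) := by
            rw [← hσ, ← sub_eq_zero, ← map_sub]; exact hr t
          rw [h2]
          rfl
        show Ideal.Quotient.mk (I ^ 2) t - g (σ t) ∈ _
        rw [h1, ← map_sub]
        exact Ideal.mem_map_of_mem _ (hr t))
      (fun t ht => by
        obtain ⟨c, hc⟩ := Ideal.Quotient.mk_surjective (ht.unit⁻¹ : (B ⧸ Ideal.span ({1 - ε} : Set B))ˣ).val
        have h1 : t * algebraMap B T c - 1 ∈ I := by
          rw [hIdef, RingHom.mem_ker, map_sub, map_mul, hσ, hc, map_one, IsUnit.mul_val_inv, sub_self]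
        have h2 : IsNilpotent (Ideal.Quotient.mk (I ^ 2) (t * algebraMap B T c - 1)) :=
          ⟨2, by rw [← map_pow, Ideal.Quotient.eq_zero_iff_mem]; exact Ideal.pow_mem_pow h1 2⟩
        have h3 := IsNilpotent.isUnit_add_one h2
        rw [map_sub, map_one, sub_add_cancel, map_mul] at h3
        exact isUnit_of_mul_isUnit_left h3)
    have h := DFunLike.congr_fun heq z
    rw [AlgHom.comp_apply, RingHom.mem_ker.1 hz, map_zero] at h
    exact Ideal.Quotient.eq_zero_iff_mem.1 h
  obtain ⟨e₀, he₀, hI⟩ := (Ideal.isIdempotentElem_iff_of_fg I hfg).1 hsq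
  have he₀I : e₀ ∈ I := by rw [hI]; exact Ideal.mem_span_singleton_self _
  have hann : ∀ z ∈ I, (1 - e₀) * z = 0 := by
    intro z hz
    rw [hI] at hz
    obtain ⟨c, rfl⟩ := Ideal.mem_span_singleton'.1 hz
    rw [mul_left_comm, he₀.one_sub_mul_self, mul_zero]
  refine ⟨1 - e₀, he₀.one_sub, ?_, fun t => ⟨r t, ?_⟩, fun b => ⟨fun h => ?_, fun h => hann _ ?_⟩⟩
  · rw [map_sub, map_one, RingHom.mem_ker.1 he₀I, sub_zero]
  · rw [← sub_eq_zero, ← mul_sub]; exact hann _ (hr t)
  · have h1 := congrArg σ h
    rw [map_mul, map_sub, map_one, RingHom.mem_ker.1 he₀I, sub_zero, one_mul, hσ, map_zero, hmem] at h1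
    exact h1
  · rw [hIdef, RingHom.mem_ker, hσ, hmem]; exact h

end Groth.Agent.FinGrp34
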