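import Groth.Prelude.Def_CAlg
import Mathlib.LinearAlgebra.Quotient.Basic

/-!
The depth of a direct summand.
-/

universe u v w

open RingTheory.Sequence Pointwise

namespace Groth.Agent.FinGrp34

variable {R : Type u} [CommRing R]
variable {M : Type v} [AddCommGroup M] [Module R M] {N : Type w} [AddCommGroup N] [Module R N]

theorem isWeaklyRegular_of_retract (i : N →ₗ[R] M) (π : M →ₗ[R] N) (h : ∀ x, π (i x) = x) :
    ∀ rs : List R, IsWeaklyRegular M rs → IsWeaklyRegular N rs := by
  intro rs
  induction rs generalizing M N with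
  | nil => intro _; exact IsWeaklyRegular.nil R N
  | cons r rs ih =>
    intro hrs
    rw [isWeaklyRegular_cons_iff] at hrs ⊢
    obtain ⟨h1, h2⟩ := hrs
    refine ⟨fun x y hxy => ?_, ih (QuotSMulTop.map r i) (QuotSMulTop.map r π) (fun x => ?_) h2⟩
    · have := h1 (show r • i x = r • i y by rw [← map_smul, ← map_smul]; exact congrArg i hxy)
      rw [← h x, ← h y, this]
    · obtain ⟨x, rfl⟩ := Submodule.Quotient.mk_surjective _ x
      show QuotSMulTop.map r π (QuotSMulTop.map r i (Submodule.Quotient.mk x)) = _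
      rw [QuotSMulTop.map_apply_mk, QuotSMulTop.map_apply_mk, h]

/-- The depth can only grow on a direct summand. -/
theorem idealDepth_le_of_retract (I : Ideal R) (i : N →ₗ[R] M) (π : M →ₗ[R] N) (h : ∀ x, π (i x) = x) :
    LocCoh.idealDepth I M ≤ LocCoh.idealDepth I N := by
  unfold LocCoh.idealDepth
  by_cases hN : I • (⊤ : Submodule R N) = ⊤
  · rw [if_pos hN]; exact le_top
  · have hM : I • (⊤ : Submodule R M) ≠ ⊤ := by
      intro hM
      refine hN (top_unique fun x _ => ?_)
      have h1 := Submodule.mem_map_of_mem (f := π) (hM.ge (Submodule.mem_top (x := i x)))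
      rw [Submodule.map_smul'', h] at h1
      exact (Submodule.smul_mono le_rfl le_top) h1
    rw [if_neg hN, if_neg hM]
    refine iSup₂_le fun rs hrs => ?_
    exact le_iSup₂_of_le rs ⟨isWeaklyRegular_of_retract i π h rs hrs.1, hrs.2⟩ le_rfl

end Groth.Agent.FinGrp34
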