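import Groth.Agent.FinGrp34.Fibre
import Groth.Agent.FinGrp34.DepthRetract
import Groth.Agent.Ega11.FiniteChange

/-!
Serre conditions and Cohen-Macaulayness pass to quotients by linearly reductive finite group schemes.
-/

set_option autoImplicit false
universe u

open IsLocalRing Groth.Agent.EGA4Alg4 HopfRep

noncomputable section

namespace Groth.Agent.FinGrp34

section General

variable (R : Type u) [CommRing R]

theorem supportDim_self_loc (q : Ideal R) [q.IsPrime] :
    Module.supportDim (Localization.AtPrime q) (LocalizedModule q.primeCompl R) = (q.height : WithBot ℕ∞) := by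
  rw [Ega11.SupportLoc.supportDim_localizedModule_eq,
    show q.height = Order.height (⟨q, inferInstance⟩ : PrimeSpectrum R) from PrimeSpectrum.height_eq_orderHeight ⟨q, inferInstance⟩,
    Order.height_eq_krullDim_Iic]
  refine Order.krullDim_eq_of_orderIso
    { toFun := fun y => ⟨y.1, y.2.2⟩
      invFun := fun y => ⟨y.1, ?_, y.2⟩
      left_inv := fun _ => rfl
      right_inv := fun _ => rfl
      map_rel_iff' := Iff.rfl }
  rw [Module.mem_support_iff_of_finite]
  intro a ha
  have := Module.mem_annihilator.1 ha 1
  rw [smul_eq_mul, mul_one] at this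
  exact this ▸ Submodule.zero_mem _

/-- A ring is its own localized module. -/
def selfLocEquiv (p : Ideal R) [p.IsPrime] :
    LocalizedModule p.primeCompl R ≃ₗ[Localization.AtPrime p] Localization.AtPrime p :=
  (IsLocalizedModule.linearEquiv p.primeCompl (LocalizedModule.mkLinearMap p.primeCompl R)
    (Algebra.linearMap R (Localization.AtPrime p))).extendScalarsOfIsLocalization p.primeCompl _

variable {R}

theorem hasSk_of_isCohenMacaulayRing (h : LocCoh.IsCohenMacaulayRing R) (r : ℕ) : LocCoh.HasSk r R R := by
  intro p _
  refine (min_le_right _ _).trans ?_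
  rw [depth_eq_of_equiv (selfLocEquiv R p), Module.supportDim_eq_of_equiv (selfLocEquiv R p),
    (h.isCohenMacaulayLocalRing_localization p).supportDim_eq_depth]

theorem le_depth_of_forall_hasSk {M : Type u} [AddCommGroup M] [Module R M] [IsNoetherianRing R]
    [Module.Finite R M] (h : ∀ r, LocCoh.HasSk r R M) (p : Ideal R) [p.IsPrime]
    (hs : (⟨p, ‹_›⟩ : PrimeSpectrum R) ∈ Module.support R M) :
    LocCoh.IsCohenMacaulayModule (Localization.AtPrime p) (LocalizedModule p.primeCompl M) := by
  have : Nontrivial (LocalizedModule p.primeCompl M) := hs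
  have : Module.Finite (Localization.AtPrime p) (LocalizedModule p.primeCompl M) :=
    Module.Finite.of_isLocalizedModule p.primeCompl (LocalizedModule.mkLinearMap p.primeCompl M)
  refine le_antisymm (Ega11.FiniteChange.le_coe_of_forall_nat _ _ fun n hn => ?_) depth_le_supportDim
  exact WithBot.coe_le_coe.1 ((le_min le_rfl hn).trans (h n p))

end General

variable {k : Type u} [Field k] {H : Type u} [CommRing H] [HopfAlgebra k H] [Module.Finite k H]
variable (R : Type u) [CommRing R] [Algebra k R] [Comod k H R] [GLin.IsCoactAlg k H R]
variable [Algebra.FiniteType k R]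

local notation "C" => GLin.invariants k H R

theorem supportDim_over_eq (p : Ideal C) [p.IsPrime] :
    Module.supportDim (Localization.AtPrime p) (LocalizedModule p.primeCompl R) =
      Module.supportDim (Localization.AtPrime p) (LocalizedModule p.primeCompl C) := by
  have := moduleFinite_over_invariants (k := k) (A := H) R
  rw [Ega11.SupportLoc.supportDim_localizedModule_eq, Ega11.SupportLoc.supportDim_localizedModule_eq]
  have h : ∀ x : PrimeSpectrum C, x ∈ Module.support C R ∧ x ∈ Module.support C C := by
    intro x
    refine ⟨Module.mem_support_iff_of_finite.2 fun a ha => ?_, Module.mem_support_iff_of_finite.2 fun a ha => ?_⟩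
    · have h1 : a • (1 : R) = 0 := Module.mem_annihilator.1 ha 1
      rw [Algebra.smul_def, mul_one] at h1
      rw [show a = 0 from Subtype.ext h1]
      exact Submodule.zero_mem _
    · have h1 := Module.mem_annihilator.1 ha 1
      rw [smul_eq_mul, mul_one] at h1
      exact h1 ▸ Submodule.zero_mem _
  exact Order.krullDim_eq_of_orderIso
    { toFun := fun y => ⟨y.1, (h y.1).2, y.2.2⟩
      invFun := fun y => ⟨y.1, (h y.1).1, y.2.2⟩
      left_inv := fun _ => rfl
      right_inv := fun _ => rfl
      map_rel_iff' := Iff.rfl }

theorem mem_support_invariants (p : PrimeSpectrum C) : p ∈ Module.support C R := by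
  have := moduleFinite_over_invariants (k := k) (A := H) R
  refine Module.mem_support_iff_of_finite.2 fun a ha => ?_
  have h1 : a • (1 : R) = 0 := Module.mem_annihilator.1 ha 1
  rw [Algebra.smul_def, mul_one] at h1
  rw [show a = 0 from Subtype.ext h1]
  exact Submodule.zero_mem _

theorem hasSk_over_invariants (r : ℕ) (hR : LocCoh.HasSk r R R) : LocCoh.HasSk r C R := by
  have := moduleFinite_over_invariants (k := k) (A := H) R
  have := isNoetherianRing_invariants_of_finite (k := k) (A := H) R
  have : IsNoetherianRing R := Algebra.FiniteType.isNoetherianRing k R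
  refine Ega11.FiniteChange.hasSk_of_equalDim (A := C) (B := R) R r (fun q _ q' _ h => ?_) hR
  rw [supportDim_self_loc, supportDim_self_loc, height_eq_of_comap_eq (k := k) (H := H) R q.asIdeal q'.asIdeal h]

theorem hasSk_invariants (hG : IsLinearlyReductive k H) (r : ℕ) (hR : LocCoh.HasSk r R R) :
    LocCoh.HasSk r C C := by
  intro p _
  rw [← supportDim_over_eq]
  refine (hasSk_over_invariants R r hR p).trans (WithBot.coe_le_coe.2 ?_)
  let S := p.primeCompl
  refine idealDepth_le_of_retract _ (LocalizedModule.map S (Algebra.linearMap C R))
    (LocalizedModule.map S (LinRed34.reyInv (R := R) hG)) (fun x => ?_)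
  induction x using LocalizedModule.induction_on with
  | h m s =>
    rw [LocalizedModule.map_mk, LocalizedModule.map_mk, Algebra.linearMap_apply]
    congr 1
    exact LinRed34.reyInv_coe hG m

theorem isCohenMacaulayRing_invariants (hG : IsLinearlyReductive k H) (hR : LocCoh.IsCohenMacaulayRing R) :
    LocCoh.IsCohenMacaulayRing C ∧ ∀ (p : Ideal C) [p.IsPrime],
      LocCoh.IsCohenMacaulayModule (Localization.AtPrime p) (LocalizedModule p.primeCompl R) ∧
        Module.supportDim (Localization.AtPrime p) (LocalizedModule p.primeCompl R) =
          ringKrullDim (Localization.AtPrime p) := by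
  have := moduleFinite_over_invariants (k := k) (A := H) R
  have hn := isNoetherianRing_invariants_of_finite (k := k) (A := H) R
  have hsk := fun r => hasSk_of_isCohenMacaulayRing hR r
  refine ⟨{ hn with isCohenMacaulayLocalRing_localization := fun p _ => ⟨?_⟩ },
    fun p _ => ⟨le_depth_of_forall_hasSk (fun r => hasSk_over_invariants R r (hsk r)) p
      (mem_support_invariants R _), ?_⟩⟩
  · have h := le_depth_of_forall_hasSk (M := C) (fun r => hasSk_invariants R hG r (hsk r)) p
      (Module.mem_support_iff_of_finite.2 fun a ha => by
        have h1 := Module.mem_annihilator.1 ha 1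
        rw [smul_eq_mul, mul_one] at h1
        exact h1 ▸ Submodule.zero_mem _)
    unfold LocCoh.IsCohenMacaulayModule at h
    rwa [depth_eq_of_equiv (selfLocEquiv C p), Module.supportDim_eq_of_equiv (selfLocEquiv C p)] at h
  · rw [supportDim_over_eq, Module.supportDim_eq_of_equiv (selfLocEquiv C p),
      Module.supportDim_self_eq_ringKrullDim]

end Groth.Agent.FinGrp34
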