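import Groth.Agent.FinGrp34.OrbitMap
import Groth.Agent.Hopf34.Fin
import Groth.Agent.DiscDual32.OpenImm
import Groth.Prelude.Def_ComodSub
import Mathlib.RingTheory.ZariskisMainTheorem

/-!
Coactions on stable subalgebras; the equivariant form of Zariski's main theorem.
-/

set_option autoImplicit false

universe u

open TensorProduct

noncomputable section

namespace Groth.Agent.FinGrp34.EquivFactor

variable {k : Type u} [Field k] {A : Type u} [CommRing A] [HopfAlgebra k A]
  {R : Type u} [CommRing R] [Algebra k R] [HopfRep.Comod k A R] [GLin.IsCoactAlg k A R]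

local notation "ρ" => HopfRep.Comod.coact (k := k) (A := A)

/-- An injective algebra map with stable image carries a coaction. -/
theorem exists_comod {U : Type u} [CommRing U] [Algebra k U] (i : U →ₐ[k] R) (hi : Function.Injective i)
    (h : ∀ u : U, ρ (i u) ∈ (Algebra.TensorProduct.map i (AlgHom.id k A)).range) :
    ∃ (c : HopfRep.Comod k A U) (_ : @GLin.IsCoactAlg k _ A _ _ U _ _ c), ∀ u : U, ρ (i u) =
      Algebra.TensorProduct.map i (AlgHom.id k A) (c.coact u) := by
  let M := Algebra.TensorProduct.map i (AlgHom.id k A)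
  have hM : Function.Injective M :=
    Module.Flat.rTensor_preserves_injective_linearMap (M := A) i.toLinearMap hi
  let ρ' : U →ₐ[k] U ⊗[k] A :=
    (AlgEquiv.ofInjective M hM).symm.toAlgHom.comp (((GLin.coactAlgHom k A R).comp i).codRestrict M.range h)
  have hρ : ∀ u, M (ρ' u) = ρ (i u) := fun u => congrArg Subtype.val ((AlgEquiv.ofInjective M hM).apply_symm_apply _)
  have hρl : i.toLinearMap.rTensor A ∘ₗ ρ'.toLinearMap = ρ ∘ₗ i.toLinearMap := LinearMap.ext fun u => hρ u
  let c : HopfRep.Comod k A U :=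
    { coact := ρ'.toLinearMap
      coassoc := ComodSub.coassoc_of_emb ‹HopfRep.Comod k A R› ρ'.toLinearMap i.toLinearMap hρl
        (Module.Flat.rTensor_preserves_injective_linearMap _
          (Module.Flat.rTensor_preserves_injective_linearMap _ hi))
      counit_comp := ComodSub.counit_of_emb ‹HopfRep.Comod k A R› ρ'.toLinearMap i.toLinearMap hρl
        (Module.Flat.rTensor_preserves_injective_linearMap _ hi) }
  exact ⟨c, @GLin.IsCoactAlg.mk k _ A _ _ U _ _ c (map_one ρ') (map_mul ρ'), fun u => (hρ u).symm⟩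

section Integral

variable [IsAlgClosed k] [Algebra.FiniteType k A] [IsReduced A]
  {S : Type u} [CommRing S] [Algebra k S] [HopfRep.Comod k A S] [GLin.IsCoactAlg k A S]
  [Algebra S R] [IsScalarTower k S R]
  (hequiv : ∀ s : S, HopfRep.Comod.coact (k := k) (A := A) (algebraMap S R s) =
    Algebra.TensorProduct.map (IsScalarTower.toAlgHom k S R) (AlgHom.id k A) (HopfRep.Comod.coact (k := k) (A := A) s))

include hequiv

omit [IsAlgClosed k] [Algebra.FiniteType k A] [IsReduced A] in
theorem actHom_algebraMap (g : A →ₐ[k] k) (s : S) :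
    OrbitMap.actHom A R g (algebraMap S R s) = algebraMap S R (OrbitMap.actHom A S g s) := by
  show (Algebra.TensorProduct.rid k k R) (Algebra.TensorProduct.map (AlgHom.id k R) g (ρ (algebraMap S R s))) =
    algebraMap S R ((Algebra.TensorProduct.rid k k S) (Algebra.TensorProduct.map (AlgHom.id k S) g (ρ s)))
  rw [hequiv]
  generalize ρ s = z
  induction z with
  | zero => simp
  | tmul p q => simp [Algebra.smul_def, IsScalarTower.algebraMap_apply k S R]
  | add p q hp hq => simp only [map_add, hp, hq]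

omit [IsAlgClosed k] [Algebra.FiniteType k A] [IsReduced A] in
theorem isIntegral_actHom (g : A →ₐ[k] k) {r : R} (hr : IsIntegral S r) :
    IsIntegral S (OrbitMap.actHom A R g r) := by
  obtain ⟨P, hP, hP0⟩ := hr
  refine ⟨P.map (OrbitMap.actHom A S g).toRingHom, hP.map _, ?_⟩
  rw [Polynomial.eval₂_map,
    show (algebraMap S R).comp (OrbitMap.actHom A S g).toRingHom =
      (OrbitMap.actHom A R g).toRingHom.comp (algebraMap S R) from
      RingHom.ext fun s => (actHom_algebraMap hequiv g s).symm,
    show OrbitMap.actHom A R g r = (OrbitMap.actHom A R g).toRingHom r from rfl, ← Polynomial.hom_eval₂, hP0, map_zero]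

/-- The integral closure is stable. -/
theorem isSubcomod_integralClosure :
    HopfRep.IsSubcomod (k := k) (A := A) ((integralClosure S R).toSubmodule.restrictScalars k) := by
  set I : Submodule k R := (integralClosure S R).toSubmodule.restrictScalars k
  intro r hr
  have hex : Function.Exact (I.subtype.rTensor A) (I.mkQ.rTensor A) :=
    rTensor_exact A (LinearMap.exact_subtype_mkQ I) (Submodule.mkQ_surjective I)
  refine LinearMap.mem_range.2 ((hex _).1 ?_)
  refine Comod33.eq_of_lc fun ℓ => ?_
  rw [map_zero]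
  refine Hopf35.Stable.eq_zero_of_points (k := k) fun ψ => ?_
  show ψ.toLinearMap _ = 0
  rw [Comod33.apply_lc, Comod33.rc_rTensor, ← Comod33.dact_apply, ← Comod33.act_eq_dact, ← OrbitMap.actHom_apply]
  rw [show I.mkQ (OrbitMap.actHom A R ψ r) = 0 from (Submodule.Quotient.mk_eq_zero I).2 (isIntegral_actHom hequiv ψ hr),
    map_zero]

/-- Equivariant Zariski main theorem. -/
theorem exists_factor [Algebra.FiniteType k S] [Algebra.FiniteType k R] [Algebra.QuasiFinite S R] :
    ∃ (B : Type u) (_ : CommRing B) (_ : Algebra k B) (_ : HopfRep.Comod k A B) (_ : GLin.IsCoactAlg k A B),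
      Algebra.FiniteType k B ∧
      ∃ (ψ : S →ₐ[k] B) (i : B →ₐ[k] R),
        (∀ s : S, ρ (ψ s) = Algebra.TensorProduct.map ψ (AlgHom.id k A) (ρ s)) ∧
        (∀ s : B, ρ (i s) = Algebra.TensorProduct.map i (AlgHom.id k A) (ρ s)) ∧
        i.comp ψ = IsScalarTower.toAlgHom k S R ∧ ψ.toRingHom.Finite ∧
        AlgebraicGeometry.IsOpenImmersion (AlgebraicGeometry.Spec.map (CommRingCat.ofHom i.toRingHom)) := by
  classical
  haveI : Algebra.FiniteType S R := Algebra.FiniteType.of_restrictScalars_finiteType k S R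
  have hzmt : ∀ P : PrimeSpectrum R, ∃ h ∉ P.asIdeal, IsIntegral S h ∧ ∀ x, ∃ m, IsIntegral S (h ^ m * x) := fun P =>
    Algebra.zariskisMainProperty_iff.1 (Algebra.ZariskisMainProperty.of_finiteType P.asIdeal)
  choose h hP hint hm using hzmt
  obtain ⟨gens, hgens⟩ := (Algebra.FiniteType.out : (⊤ : Subalgebra k R).FG)
  choose m hm using hm
  have htop : Ideal.span (Set.range h) = ⊤ := by
    by_contra hne
    obtain ⟨M, hM, hle⟩ := Ideal.exists_le_maximal _ hne
    exact hP ⟨M, hM.isPrime⟩ (hle (Ideal.subset_span ⟨_, rfl⟩))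
  obtain ⟨T, hT1⟩ : ∃ T : Finset (PrimeSpectrum R), (1 : R) ∈ Ideal.span (h '' (T : Set (PrimeSpectrum R))) := by
    obtain ⟨T, hT⟩ := Submodule.mem_span_finite_of_mem_span (R := R) (S := Set.range h) ((Ideal.eq_top_iff_one _).1 htop)
    have hT' : (T : Set R) ⊆ h '' Set.univ := by rw [Set.image_univ]; exact hT.1
    obtain ⟨T', -, hT''⟩ := Finset.subset_set_image_iff.1 hT'
    refine ⟨T', ?_⟩
    have h2 : (1 : R) ∈ Ideal.span (T : Set R) := hT.2
    rwa [← hT'', Finset.coe_image] at h2
  let F : Finset R := T.image h ∪ (T ×ˢ gens).image fun p => h p.1 ^ m p.1 p.2 * p.2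
  let I : Submodule k R := (integralClosure S R).toSubmodule.restrictScalars k
  have hFI : (F : Set R) ⊆ (I : Set R) := by
    intro r hr
    rcases Finset.mem_union.1 (Finset.mem_coe.1 hr) with hr | hr
    · obtain ⟨P, -, rfl⟩ := Finset.mem_image.1 hr
      exact hint P
    · obtain ⟨⟨P, x⟩, -, rfl⟩ := Finset.mem_image.1 hr
      exact hm P x
  obtain ⟨W, hWfin, hWs, hFW, hWmin⟩ := Hopf34.exists_finite_isSubcomod (k := k) (A := A) (F : Set R) F.finite_toSet
  have hWI : W ≤ I := hWmin I (isSubcomod_integralClosure hequiv) hFI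
  obtain ⟨t, ht⟩ := (Module.Finite.iff_fg.1 hWfin : W.FG)
  let B : Subalgebra S R := Algebra.adjoin S (t : Set R)
  have hWB : ∀ w ∈ W, w ∈ B := fun w hw => by
    rw [← ht] at hw
    exact (Submodule.span_le.2 (Algebra.subset_adjoin) :
      Submodule.span k (t : Set R) ≤ B.toSubmodule.restrictScalars k) hw
  have hBint : Algebra.IsIntegral S B := by
    refine Algebra.IsIntegral.adjoin fun x hx => hWI ?_
    rw [← ht]; exact Submodule.subset_span hx
  haveI : Algebra.FiniteType S B := Algebra.FiniteType.adjoin_of_finite t.finite_toSet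
  haveI : Module.Finite S B := Algebra.IsIntegral.finite
  let i : B →ₐ[k] R := B.val.restrictScalars k
  let M := Algebra.TensorProduct.map i (AlgHom.id k A)
  let G : Subalgebra k R := M.range.comap (GLin.coactAlgHom k A R)
  have hGS : ∀ s : S, algebraMap S R s ∈ G := fun s => by
    show ρ (algebraMap S R s) ∈ M.range
    rw [hequiv]
    generalize ρ s = z
    induction z with
    | zero => simp
    | tmul p q => exact ⟨(⟨algebraMap S R p, B.algebraMap_mem p⟩ : B) ⊗ₜ[k] q, by simp [M, i]⟩
    | add p q hp hq => rw [map_add]; exact add_mem hp hq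
  have hB : ∀ b : B, ρ (i b) ∈ M.range := by
    rintro ⟨b, hb⟩
    show b ∈ G
    induction hb using Algebra.adjoin_induction with
    | mem x hx =>
      obtain ⟨z, hz⟩ := hWs x (ht ▸ Submodule.subset_span hx)
      show ρ x ∈ M.range
      rw [← hz]
      clear hz
      induction z with
      | zero => simp
      | tmul p q => exact ⟨(⟨(p : R), hWB p p.2⟩ : B) ⊗ₜ[k] q, by simp [M, i]⟩
      | add p q hp hq => rw [map_add]; exact add_mem hp hq
    | algebraMap s => exact hGS s
    | add x y _ _ hx hy => exact add_mem hx hy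
    | mul x y _ _ hx hy => exact mul_mem hx hy
  obtain ⟨c, hc, hci⟩ := exists_comod i Subtype.val_injective hB
  letI := c
  haveI := hc
  refine ⟨B, inferInstance, inferInstance, c, hc, Algebra.FiniteType.trans (S := S) inferInstance inferInstance,
    IsScalarTower.toAlgHom k S B, i, fun s => ?_, hci, AlgHom.ext fun s => rfl, ?_, ?_⟩
  · refine (Module.Flat.rTensor_preserves_injective_linearMap (M := A) i.toLinearMap Subtype.val_injective) ?_
    show M (ρ (IsScalarTower.toAlgHom k S B s)) = M (Algebra.TensorProduct.map (IsScalarTower.toAlgHom k S B) (AlgHom.id k A) (ρ s))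
    rw [← hci]
    show ρ (algebraMap S R s) = _
    rw [hequiv]
    generalize ρ s = z
    induction z with
    | zero => simp
    | tmul p q => simp [M, i, ← IsScalarTower.algebraMap_apply]
    | add p q hp hq => simp only [map_add, hp, hq]
  · show (algebraMap S B).Finite
    exact RingHom.finite_algebraMap.2 inferInstance
  · refine DiscDual32.isOpenImmersion_of_away _ fun P => ?_
    obtain ⟨P₀, hP₀T, hP₀⟩ : ∃ P₀ ∈ T, h P₀ ∉ P.asIdeal := by
      by_contra hc'
      push Not at hc'
      exact P.2.ne_top ((Ideal.eq_top_iff_one _).2 ((Ideal.span_le.2 (by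
        rintro _ ⟨Q, hQ, rfl⟩
        exact hc' Q hQ) : _ ≤ P.asIdeal) hT1))
    have hhB : h P₀ ∈ B := hWB _ (hFW (by simp [F]; exact Or.inl ⟨P₀, hP₀T, rfl⟩))
    refine ⟨⟨h P₀, hhB⟩, hP₀, fun r => ?_, fun a ha => ⟨0, by rw [pow_zero, one_mul]; exact Subtype.ext ha⟩⟩
    suffices ∃ n, h P₀ ^ n * r ∈ B by
      obtain ⟨n, hn⟩ := this
      exact ⟨⟨_, hn⟩, n, rfl⟩
    have hr : r ∈ Algebra.adjoin k (gens : Set R) := hgens ▸ Algebra.mem_top
    induction hr using Algebra.adjoin_induction with
    | mem x hx =>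
      exact ⟨m P₀ x, hWB _ (hFW (Finset.mem_coe.2 (Finset.mem_union_right _
        (Finset.mem_image.2 ⟨(P₀, x), Finset.mem_product.2 ⟨hP₀T, Finset.mem_coe.1 hx⟩, rfl⟩))))⟩
    | algebraMap c => exact ⟨0, by rw [pow_zero, one_mul, IsScalarTower.algebraMap_apply k S R]; exact B.algebraMap_mem _⟩
    | add x y _ _ hx hy =>
      obtain ⟨a, ha⟩ := hx
      obtain ⟨b, hb⟩ := hy
      refine ⟨a + b, ?_⟩
      rw [show h P₀ ^ (a + b) * (x + y) = h P₀ ^ b * (h P₀ ^ a * x) + h P₀ ^ a * (h P₀ ^ b * y) by ring]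
      exact add_mem (mul_mem (pow_mem hhB _) ha) (mul_mem (pow_mem hhB _) hb)
    | mul x y _ _ hx hy =>
      obtain ⟨a, ha⟩ := hx
      obtain ⟨b, hb⟩ := hy
      refine ⟨a + b, ?_⟩
      rw [show h P₀ ^ (a + b) * (x * y) = (h P₀ ^ a * x) * (h P₀ ^ b * y) by ring]
      exact mul_mem ha hb

end Integral

end Groth.Agent.FinGrp34.EquivFactor
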