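import Groth.Agent.FinGrp34.EtaleInv
import Mathlib.RingTheory.Etale.Pi
import Mathlib.RingTheory.Adjoin.Tower
import Mathlib.RingTheory.Invariant.Basic
import Mathlib.RingTheory.Filtration
import Mathlib.RingTheory.Jacobson.Ring
import Mathlib.RingTheory.Ideal.Pointwise
import Mathlib.RingTheory.Localization.AtPrime.Basic
import Mathlib.LinearAlgebra.TensorProduct.Pi

/-!
Etaleness of a finite quotient map at a point with trivial inertia, and conversely.
-/

universe u v w

namespace Groth.Agent.FinGrp34

/-- functions on a finite index set, to carry a twisted action -/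
def Orb (n : ℕ) (R : Type u) : Type u := Fin n → R

namespace Orb

variable {n : ℕ} {R : Type u} [CommRing R]

instance : CommRing (Orb n R) := inferInstanceAs (CommRing (Fin n → R))

instance {B : Type*} [CommRing B] [Algebra B R] : Algebra B (Orb n R) := inferInstanceAs (Algebra B (Fin n → R))

instance {B : Type*} [CommRing B] [Algebra B R] : IsScalarTower B R (Orb n R) := inferInstanceAs (IsScalarTower B R (Fin n → R))

end Orb

/-- a copy of a ring, to carry a second algebra structure on the same target -/
def Tw (R : Type u) : Type u := R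

namespace Tw

variable {R : Type u} [CommRing R]

instance : CommRing (Tw R) := inferInstanceAs (CommRing R)

instance {B : Type*} [CommRing B] [Algebra B R] : Algebra B (Tw R) := inferInstanceAs (Algebra B R)

variable (R) in
/-- the copy is the ring -/
def equiv (B : Type*) [CommRing B] [Algebra B R] : Tw R ≃ₐ[B] R :=
  { RingEquiv.refl R with commutes' := fun _ => rfl }

end Tw

/-- The diagonal trick: a finite quotient is étale at a point with trivial inertia. -/
theorem isEtaleAt_of_trivial_inertia {B R : Type u} [CommRing B] [CommRing R] [Algebra B R]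
    (G : Type v) [Group G] [Finite G] [MulSemiringAction G R] [SMulCommClass G B R]
    (hinv : ∀ r : R, (∀ g : G, g • r = r) → ∃ b : B, algebraMap B R b = r)
    (hinj : Function.Injective (algebraMap B R)) [Module.Finite B R] [Algebra.FinitePresentation B R]
    (m : Ideal R) [m.IsPrime] (hm : ∀ g : G, (∀ r : R, g • r - r ∈ m) → g = 1) :
    Algebra.IsEtaleAt B m := by
  classical
  cases nonempty_fintype G
  let e := Fintype.equivFin G
  letI : MulSemiringAction G (Orb (Fintype.card G) R) :=
    { smul := fun g f i => g • f (e (g⁻¹ * e.symm i))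
      one_smul := fun f => funext fun i => by
        show (1 : G) • f (e ((1 : G)⁻¹ * e.symm i)) = f i
        simp
      mul_smul := fun g h f => funext fun i => by
        show (g * h) • f (e ((g * h)⁻¹ * e.symm i)) = g • h • f (e (h⁻¹ * e.symm (e (g⁻¹ * e.symm i))))
        simp [mul_smul, mul_assoc]
      smul_zero := fun g => funext fun i => smul_zero g
      smul_add := fun g a b => funext fun i => smul_add g _ _
      smul_one := fun g => funext fun i => smul_one g
      smul_mul := fun g a b => funext fun i => smul_mul' g _ _ }
  have hsm : ∀ (g : G) (f : Orb (Fintype.card G) R) i, (g • f) i = g • f (e (g⁻¹ * e.symm i)) := fun _ _ _ => rfl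
  haveI : SMulCommClass G B (Orb (Fintype.card G) R) := ⟨fun g b f => funext fun i => by
    show g • (b • f) (e (g⁻¹ * e.symm i)) = b • (g • f (e (g⁻¹ * e.symm i)))
    exact smul_comm g b _⟩
  letI : Algebra (Tw R) (Orb (Fintype.card G) R) :=
    (show Tw R →+* Orb (Fintype.card G) R from Pi.ringHom fun i => MulSemiringAction.toRingHom G R (e.symm i)).toAlgebra
  have hD : ∀ (d : Tw R) i, algebraMap (Tw R) (Orb (Fintype.card G) R) d i = e.symm i • (show R from d) :=
    fun _ _ => rfl
  haveI : IsScalarTower B (Tw R) (Orb (Fintype.card G) R) := IsScalarTower.of_algebraMap_eq fun b => funext fun i => by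
    rw [hD]
    show algebraMap B R b = e.symm i • (algebraMap B R b)
    rw [smul_algebraMap]
  haveI : Algebra.Etale R (Orb (Fintype.card G) R) :=
    inferInstanceAs (Algebra.Etale R (Fin (Fintype.card G) → R))
  let x : Ideal (Orb (Fintype.card G) R) := m.comap (Pi.evalRingHom (fun _ => R) (e 1))
  haveI : x.IsPrime := Ideal.comap_isPrime _ _
  haveI : Algebra.IsEtaleAt R x :=
    inferInstanceAs (Algebra.FormallyEtale R (Localization x.primeCompl))
  haveI : Algebra.FinitePresentation B (Tw R) :=
    Algebra.FinitePresentation.equiv (Tw.equiv R B).symm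
  have key := isEtaleAt_invariants (C := B) (B := R) (A := Orb (Fintype.card G) R) (D := Tw R) G
    (fun g r => funext fun i => rfl) hinv hinj
    (fun f hf => ⟨(show Tw R from f (e 1)), funext fun i => by
      have := congrFun (hf (e.symm i)) i
      rw [hsm, inv_mul_cancel] at this
      rw [hD]; exact this⟩)
    (fun g d => funext fun i => by rw [hsm, hD, hD, e.symm_apply_apply, smul_smul, mul_inv_cancel_left])
    (fun a b h => by
      have := congrFun h (e 1)
      rw [hD, hD, e.symm_apply_apply, one_smul, one_smul] at this
      exact this)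
    x (fun g hg => by
      have h1 : g = 1 := hm g fun r => by
        have := hg r
        change algebraMap R (Orb (Fintype.card G) R) (g • r - r) (e 1) ∈ m at this
        exact this
      intro f
      simp [h1])
  have hx0 : x.comap (algebraMap (Tw R) (Orb (Fintype.card G) R)) =
      m.comap (Tw.equiv R B) := by
    ext d
    show algebraMap (Tw R) (Orb (Fintype.card G) R) d (e 1) ∈ m ↔ Tw.equiv R B d ∈ m
    rw [hD, e.symm_apply_apply, one_smul]
    rfl
  let q := x.comap (algebraMap (Tw R) (Orb (Fintype.card G) R))
  haveI : Algebra.FormallyEtale B (Localization.AtPrime q) := key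
  let φ : Localization.AtPrime q ≃ₐ[B] Localization.AtPrime m :=
    { IsLocalization.ringEquivOfRingEquiv (Localization.AtPrime q) (Localization.AtPrime m)
        (Tw.equiv R B).toRingEquiv (M := q.primeCompl) (T := m.primeCompl) (by
          ext r
          constructor
          · rintro ⟨d, hd, rfl⟩ h
            exact hd (show d ∈ q by rw [show q = _ from hx0]; exact h)
          · intro h
            exact ⟨(show Tw R from r), fun h' => h (by rw [show q = _ from hx0] at h'; exact h'), rfl⟩) with
      commutes' := fun b => by
        rw [IsScalarTower.algebraMap_apply B (Tw R) (Localization.AtPrime q),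
          IsScalarTower.algebraMap_apply B R (Localization.AtPrime m)]
        exact IsLocalization.ringEquivOfRingEquiv_eq _ _ }
  exact Algebra.FormallyEtale.of_equiv φ

/-- An element of the group acting trivially modulo a point where a domain is unramified is trivial. -/
theorem eq_one_of_unramified {B R : Type u} [CommRing B] [CommRing R] [IsDomain R] [IsNoetherianRing R] [Algebra B R]
    {G : Type v} [Group G] [MulSemiringAction G R] [SMulCommClass G B R] [FaithfulSMul G R]
    (m : Ideal R) [m.IsPrime] [Algebra.IsUnramifiedAt B m] (g : G) (hg : ∀ r : R, g • r - r ∈ m) : g = 1 := by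
  let Rm := Localization.AtPrime m
  let i : R →ₐ[B] Rm := IsScalarTower.toAlgHom B R Rm
  let τ : R →ₐ[B] R := MulSemiringAction.toAlgHom B R g
  have hu : ∀ s : m.primeCompl, IsUnit (i (τ s)) := fun s => IsLocalization.map_units Rm
    (⟨g • (s : R), fun h => s.2 (by simpa using m.sub_mem h (hg s))⟩ : m.primeCompl)
  let T : Rm →ₐ[B] Rm := IsLocalization.liftAlgHom (M := m.primeCompl) (f := i.comp τ) hu
  have hT : ∀ r, T (algebraMap R Rm r) = algebraMap R Rm (g • r) := fun r => IsLocalization.lift_eq _ r
  have key : ∀ n, ∀ r : R, algebraMap R Rm (g • r - r) ∈ (IsLocalRing.maximalIdeal Rm) ^ n := by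
    intro n r
    rcases Nat.eq_zero_or_pos n with rfl | hn
    · simp
    let I := IsLocalRing.maximalIdeal Rm ^ n
    let π : Rm →ₐ[B] Rm ⧸ I := Ideal.Quotient.mkₐ B I
    have h := Algebra.FormallyUnramified.lift_unique
      ((IsLocalRing.maximalIdeal Rm).map (Ideal.Quotient.mk I))
      ⟨n, by rw [← Ideal.map_pow]; exact Ideal.map_quotient_self _⟩ (π.comp T) π (by
        refine IsLocalization.algHom_ext m.primeCompl (AlgHom.ext fun r => ?_)
        show Ideal.Quotient.mk _ (π (T (algebraMap R Rm r))) = Ideal.Quotient.mk _ (π (algebraMap R Rm r))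
        rw [hT, Ideal.Quotient.eq, ← map_sub, ← map_sub]
        refine Ideal.mem_map_of_mem _ ?_
        rw [← Localization.AtPrime.map_eq_maximalIdeal]
        exact Ideal.mem_map_of_mem _ (hg r))
    have := DFunLike.congr_fun h (algebraMap R Rm r)
    rw [AlgHom.comp_apply, hT] at this
    rw [map_sub]
    exact Ideal.Quotient.eq.1 this
  refine eq_of_smul_eq_smul (α := R) fun r => ?_
  rw [one_smul, ← sub_eq_zero]
  refine IsLocalization.injective Rm (Ideal.primeCompl_le_nonZeroDivisors m) ?_
  rw [map_zero, ← Ideal.mem_bot, ← Ideal.iInf_pow_eq_bot_of_isLocalRing (IsLocalRing.maximalIdeal Rm)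
    (IsLocalRing.maximalIdeal.isMaximal Rm).ne_top, Ideal.mem_iInf]
  exact fun n => key n r

end Groth.Agent.FinGrp34
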