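import Groth.Agent.FinGrp34.EtaleRetract
import Groth.Agent.Henz21.Henselization
import Groth.Agent.Henz21.Flat
import Groth.Agent.FlatMor66.FlatDescentSource
import Groth.Agent.Unr55.StalkCrit

/-!
The invariants of an equivariant map that is étale at a point with the same inertia are étale there.
-/

universe u v

open TensorProduct IsLocalRing

noncomputable section

namespace Groth.Agent.FinGrp34

set_option maxHeartbeats 1000000 in
theorem isEtaleAt_invariants {C B A D : Type u} [CommRing C] [CommRing B] [CommRing A] [CommRing D]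
    [Algebra C B] [Algebra C A] [Algebra B A] [IsScalarTower C B A] [Algebra C D] [Algebra D A] [IsScalarTower C D A]
    (G : Type v) [Group G] [Finite G] [MulSemiringAction G B] [MulSemiringAction G A]
    [SMulCommClass G C B] [SMulCommClass G C A]
    (hGeq : ∀ (g : G) (b : B), algebraMap B A (g • b) = g • algebraMap B A b)
    (hB : ∀ b : B, (∀ g : G, g • b = b) → ∃ c : C, algebraMap C B c = b)
    (hCinj : Function.Injective (algebraMap C B))
    (hA : ∀ a : A, (∀ g : G, g • a = a) → ∃ d : D, algebraMap D A d = a)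
    (hDfix : ∀ (g : G) (d : D), g • algebraMap D A d = algebraMap D A d)
    (hDinj : Function.Injective (algebraMap D A))
    [Module.Finite C B] [Algebra.FinitePresentation B A] [Algebra.FinitePresentation C D]
    (x : Ideal A) [x.IsPrime] [Algebra.IsEtaleAt B x]
    (hin : ∀ g : G, (∀ b : B, algebraMap B A (g • b - b) ∈ x) → ∀ a : A, g • a - a ∈ x) :
    Algebra.IsEtaleAt C (x.comap (algebraMap D A)) := by
  let c : Ideal C := x.comap (algebraMap C A)
  let x0 : Ideal D := x.comap (algebraMap D A)
  let Cc := Localization.AtPrime c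
  let Sep := SeparableClosure (ResidueField Cc)
  let S := Henz21.StrictHenselization Cc
  let Ω := AlgebraicClosure x.ResidueField
  haveI : x0.LiesOver c := ⟨by
    show x.comap (algebraMap C A) = (x.comap (algebraMap D A)).comap (algebraMap C D)
    rw [Ideal.comap_comap, ← IsScalarTower.algebraMap_eq]⟩
  let pA : A →ₐ[C] Ω := IsScalarTower.toAlgHom C A Ω
  have hpA : ∀ a, pA a = 0 ↔ a ∈ x := fun a => by
    show algebraMap A Ω a = 0 ↔ _
    rw [IsScalarTower.algebraMap_apply A x.ResidueField Ω, map_eq_zero_iff _ (RingHom.injective _),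
      Ideal.algebraMap_residueField_eq_zero]
  have hCΩ : ∀ z : C, algebraMap C Ω z = pA (algebraMap C A z) := fun z => (pA.commutes z).symm
  let kΩ : c.ResidueField →+* Ω := Ideal.ResidueField.lift c (algebraMap C Ω)
    (fun z hz => show algebraMap C Ω z = 0 by rw [hCΩ, hpA]; exact hz)
    (fun z hz => isUnit_iff_ne_zero.2 fun h => hz (show algebraMap C A z ∈ x by rw [← hpA, ← hCΩ]; exact h))
  letI : Algebra (ResidueField Cc) Ω := kΩ.toAlgebra
  let ι : Sep →ₐ[ResidueField Cc] Ω := IsAlgClosed.lift
  let π : S →ₐ[Cc] Sep := Henz21.H.proj Cc Sep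
  letI : Algebra C S := ((algebraMap Cc S).comp (algebraMap C Cc)).toAlgebra
  haveI : IsScalarTower C Cc S := IsScalarTower.of_algebraMap_eq fun _ => rfl
  let pS : S →ₐ[C] Ω :=
    { toRingHom := ι.toRingHom.comp π.toRingHom
      commutes' := fun z => by
        show ι (π (algebraMap Cc S (algebraMap C Cc z))) = _
        rw [AlgHom.commutes, IsScalarTower.algebraMap_apply Cc (ResidueField Cc) Sep, AlgHom.commutes]
        exact Ideal.ResidueField.lift_algebraMap .. }
  have hπ0 : ∀ s, π s = 0 ↔ s ∈ maximalIdeal S := fun s => by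
    rw [Henz21.H.maximalIdeal_eq, RingHom.mem_ker]
  have hpS : ∀ s, pS s = 0 ↔ s ∈ maximalIdeal S := fun s => by
    rw [← hπ0, show pS s = ι (π s) from rfl]
    exact map_eq_zero_iff ι.toRingHom (RingHom.injective ι.toRingHom)
  haveI : IsSepClosed (ResidueField S) :=
    (Henz21.StrictHenselization.isStrictHenselization Cc).isSepClosure.1
  haveI : Module.Flat Cc S := inferInstance
  haveI : Module.Flat C Cc := IsLocalization.flat Cc c.primeCompl
  haveI : Module.Flat C S := Module.Flat.trans C Cc S
  obtain ⟨r, hr, hrflat⟩ := exists_retraction G hGeq hB hCinj hA hDfix hDinj x hin S Ω pS hpS pA hpA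
  have hr0 : ∀ d : D, r d ∈ maximalIdeal S ↔ d ∈ x0 := fun d => by
    rw [← hpS, hr, hpA]; rfl
  have hru : ∀ d : x0.primeCompl, IsUnit (r.toRingHom d) := fun d =>
    IsLocalRing.notMem_maximalIdeal.1 fun h => d.2 ((hr0 _).1 h)
  let Dl := Localization.AtPrime x0
  let r' : Dl →+* S := IsLocalization.lift (M := x0.primeCompl) hru
  have hr' : ∀ d, r' (algebraMap D Dl d) = r d := fun d => IsLocalization.lift_eq hru d
  letI : Algebra Dl S := r'.toAlgebra
  letI : Algebra D S := r.toRingHom.toAlgebra
  haveI : IsScalarTower D Dl S := IsScalarTower.of_algebraMap_eq fun d => (hr' d).symm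
  haveI : IsScalarTower C Dl S := IsScalarTower.of_algebraMap_eq fun z => by
    show _ = r' (algebraMap C Dl z)
    rw [IsScalarTower.algebraMap_apply C D Dl, hr', r.commutes]
  haveI : Module.Flat D S := hrflat
  haveI : Module.Flat Dl S := (Module.flat_iff_of_isLocalization Dl x0.primeCompl S).2 inferInstance
  haveI : IsLocalHom (algebraMap Dl S) := ⟨fun z hz => by
    obtain ⟨d, t, rfl⟩ := IsLocalization.exists_mk'_eq x0.primeCompl z
    rw [IsLocalization.AtPrime.isUnit_mk'_iff Dl x0]
    intro hd
    have h1 : IsUnit (r' (algebraMap D Dl d)) := by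
      rw [← IsLocalization.mk'_spec Dl d t, map_mul]
      exact hz.mul ((IsLocalization.map_units Dl t).map r')
    rw [hr'] at h1
    exact IsLocalRing.notMem_maximalIdeal.2 h1 ((hr0 _).2 hd)⟩
  haveI : Module.FaithfullyFlat Dl S := Module.FaithfullyFlat.of_flat_of_isLocalHom
  haveI : Module.Flat C Dl := FlatMor66.flat_of_faithfullyFlat_top C Dl S
  have hmap : c.map (algebraMap C Dl) = maximalIdeal Dl := by
    have h1 : c.map (algebraMap C S) = maximalIdeal S := by
      rw [IsScalarTower.algebraMap_eq C Cc S, ← Ideal.map_map, Localization.AtPrime.map_eq_maximalIdeal,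
        Henz21.H.map_maximalIdeal]
    rw [← Ideal.comap_map_eq_self_of_faithfullyFlat (B := S) (c.map (algebraMap C Dl)), Ideal.map_map,
      ← IsScalarTower.algebraMap_eq, h1]
    exact ((local_hom_TFAE (algebraMap Dl S)).out 0 4).mp ‹IsLocalHom (algebraMap Dl S)›
  let k0 : x0.ResidueField →+* Sep := Ideal.ResidueField.lift x0 (π.toRingHom.comp r.toRingHom)
    (fun d hd => (hπ0 _).2 ((hr0 d).2 hd))
    (fun d hd => isUnit_iff_ne_zero.2 fun h => hd ((hr0 d).1 ((hπ0 _).1 h)))
  letI := Localization.AtPrime.algebraOfLiesOver c x0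
  have hk0 : k0.comp (algebraMap c.ResidueField x0.ResidueField) = algebraMap (ResidueField Cc) Sep := by
    refine Ideal.ResidueField.ringHom_ext (RingHom.ext fun z => ?_)
    simp only [RingHom.comp_apply]
    rw [← IsScalarTower.algebraMap_apply C c.ResidueField x0.ResidueField,
      IsScalarTower.algebraMap_apply C D x0.ResidueField]
    show k0 (algebraMap D x0.ResidueField (algebraMap C D z)) = _
    rw [show k0 (algebraMap D x0.ResidueField (algebraMap C D z)) = π (r (algebraMap C D z)) from
      Ideal.ResidueField.lift_algebraMap .., r.commutes]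
    show π (algebraMap Cc S (algebraMap C Cc z)) = _
    rw [AlgHom.commutes]
    rfl
  haveI : Algebra.IsUnramifiedAt C x0 := by
    rw [Algebra.isUnramifiedAt_iff_map_eq C c x0]
    refine ⟨?_, hmap⟩
    let f : x0.ResidueField →ₐ[c.ResidueField] Sep :=
      { toRingHom := k0, commutes' := fun z => RingHom.congr_fun hk0 z }
    haveI : Algebra.IsSeparable c.ResidueField Sep :=
      inferInstanceAs (Algebra.IsSeparable (ResidueField Cc) (SeparableClosure (ResidueField Cc)))
    exact Algebra.IsSeparable.of_algHom c.ResidueField Sep f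
  exact Unr55.isEtaleAt_of_flat_localization x0

end Groth.Agent.FinGrp34
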