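import Groth.Agent.FinGrp34.IdemOrbit
import Groth.Agent.FinGrp34.SectionIdem
import Groth.Agent.FinGrp34.BaseChangeAct
import Groth.Agent.Henz21.IntegralLoc
import Groth.Agent.Henz21.LocalLift
import Mathlib.FieldTheory.PurelyInseparable.Basic
import Mathlib.RingTheory.Etale.Locus
import Mathlib.RingTheory.Unramified.LocalRing
import Mathlib.RingTheory.LocalRing.ResidueField.Ideal

/-!
For an equivariant map étale at a point with the same inertia, the invariants upstairs map to a strictly henselian
algebra over the invariants downstairs, flatly.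
-/

universe u v

open TensorProduct IsLocalRing

noncomputable section

namespace Groth.Agent.FinGrp34

variable {C B A D : Type u} [CommRing C] [CommRing B] [CommRing A] [CommRing D]
  [Algebra C B] [Algebra C A] [Algebra B A] [IsScalarTower C B A] [Algebra C D] [Algebra D A] [IsScalarTower C D A]

theorem ringHom_flat_of_idem {E₁ S₁ : Type u} [CommRing E₁] [CommRing S₁] (π : E₁ →+* S₁) (σ : S₁ →+* E₁)
    (e : E₁) (hπσ : ∀ s, π (σ s) = s) (he : ∀ z, e * z = e * σ (π z)) (hπe : π e = 1) : π.Flat := by
  letI := π.toAlgebra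
  let i : S₁ →ₗ[E₁] E₁ :=
    { toFun := fun s => e * σ s
      map_add' := fun a b => by rw [map_add, mul_add]
      map_smul' := fun z s => by
        show e * σ (π z * s) = z * (e * σ s)
        rw [map_mul, ← mul_assoc, ← he, mul_left_comm, mul_assoc] }
  refine Module.Flat.of_retract i (Algebra.linearMap E₁ S₁) (LinearMap.ext fun s => ?_)
  show π (e * σ s) = s
  rw [map_mul, hπe, one_mul, hπσ]

set_option maxHeartbeats 3000000 in
theorem exists_retraction (G : Type v) [Group G] [Finite G] [MulSemiringAction G B] [MulSemiringAction G A]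
    [SMulCommClass G C B] [SMulCommClass G C A]
    (hGeq : ∀ (g : G) (b : B), algebraMap B A (g • b) = g • algebraMap B A b)
    (hB : ∀ b : B, (∀ g : G, g • b = b) → ∃ c : C, algebraMap C B c = b)
    (hCinj : Function.Injective (algebraMap C B))
    (hA : ∀ a : A, (∀ g : G, g • a = a) → ∃ d : D, algebraMap D A d = a)
    (hDfix : ∀ (g : G) (d : D), g • algebraMap D A d = algebraMap D A d)
    (hDinj : Function.Injective (algebraMap D A))
    [Module.Finite C B] [Algebra.FinitePresentation B A]
    (x : Ideal A) [x.IsPrime] [Algebra.IsEtaleAt B x]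
    (hin : ∀ g : G, (∀ b : B, algebraMap B A (g • b - b) ∈ x) → ∀ a : A, g • a - a ∈ x)
    (S : Type u) [CommRing S] [HenselianLocalRing S] [Algebra C S] [Module.Flat C S]
    [IsSepClosed (ResidueField S)]
    (Ω : Type u) [Field Ω] [Algebra C Ω] (pS : S →ₐ[C] Ω) (hpS : ∀ s, pS s = 0 ↔ s ∈ maximalIdeal S)
    (pA : A →ₐ[C] Ω) (hpA : ∀ a, pA a = 0 ↔ a ∈ x) :
    ∃ r : D →ₐ[C] S, (∀ d : D, pS (r d) = pA (algebraMap D A d)) ∧ r.toRingHom.Flat := by
  classical
  let φ : (S ⊗[C] B) →ₐ[S] (S ⊗[C] A) := Algebra.TensorProduct.map (AlgHom.id S S) (IsScalarTower.toAlgHom C B A)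
  letI : Algebra (S ⊗[C] B) (S ⊗[C] A) := φ.toRingHom.toAlgebra
  haveI : IsScalarTower S (S ⊗[C] B) (S ⊗[C] A) := IsScalarTower.of_algebraMap_eq fun s => (φ.commutes s).symm
  letI := bcAct C S B G
  haveI := bcAct_smulComm C S B G
  letI := bcAct C S A G
  haveI := bcAct_smulComm C S A G
  have hgB : ∀ (g : G) (s : S) (b : B), g • (s ⊗ₜ[C] b) = s ⊗ₜ[C] (g • b) := fun g s b => bcAct_tmul C S B G g s b
  have hgA : ∀ (g : G) (s : S) (a : A), g • (s ⊗ₜ[C] a) = s ⊗ₜ[C] (g • a) := fun g s a => bcAct_tmul C S A G g s a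
  have hφt : ∀ (s : S) (b : B), algebraMap (S ⊗[C] B) (S ⊗[C] A) (s ⊗ₜ[C] b) = s ⊗ₜ[C] algebraMap B A b := fun s b => rfl
  have hφg : ∀ (g : G) (z : (S ⊗[C] B)), algebraMap (S ⊗[C] B) (S ⊗[C] A) (g • z) = g • algebraMap (S ⊗[C] B) (S ⊗[C] A) z := by
    intro g z
    induction z with
    | zero => simp
    | add p q hp hq => simp only [smul_add, map_add, hp, hq]
    | tmul s b => rw [hgB, hφt, hφt, hgA, hGeq]
  -- invariants of the base change of B
  have hinvB : ∀ z : (S ⊗[C] B), (∀ g : G, g • z = z) → ∃ s : S, algebraMap S (S ⊗[C] B) s = z := by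
    intro z hz
    obtain ⟨w, hw⟩ := exists_of_fixed C S B G C (Algebra.ofId C B) hB z hz
    refine ⟨TensorProduct.rid C S w, ?_⟩
    rw [← hw]
    clear hw hz
    induction w with
    | zero => simp
    | add p q hp hq => simp only [map_add, hp, hq]
    | tmul s c =>
      simp [Algebra.TensorProduct.algebraMap_apply, Algebra.smul_def]
      rw [← Algebra.smul_def, TensorProduct.smul_tmul, Algebra.smul_def, mul_one]
  have hinjS : Function.Injective (algebraMap S (S ⊗[C] B)) := by
    have h := Module.Flat.lTensor_preserves_injective_linearMap (R := C) (M := S) (Algebra.linearMap C B) hCinj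
    intro a b hab
    have h1 : ∀ s : S, (Algebra.linearMap C B).lTensor S ((TensorProduct.rid C S).symm s) = algebraMap S (S ⊗[C] B) s := fun s => by
      simp [Algebra.TensorProduct.algebraMap_apply]
    exact (TensorProduct.rid C S).symm.injective (h (by rw [h1, h1, hab]))
  -- the geometric point
  let P : (S ⊗[C] A) →ₐ[C] Ω := Algebra.TensorProduct.productMap pS pA
  have hP : ∀ (s : S) (a : A), P (s ⊗ₜ[C] a) = pS s * pA a := fun s a => by simp [P]
  have hPS : ∀ s : S, P (algebraMap (S ⊗[C] B) (S ⊗[C] A) (algebraMap S (S ⊗[C] B) s)) = pS s := fun s => by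
    rw [← IsScalarTower.algebraMap_apply, Algebra.TensorProduct.algebraMap_apply, hP, map_one, mul_one]
    simp
  let x' : Ideal (S ⊗[C] A) := RingHom.ker P
  haveI : x'.IsPrime := RingHom.ker_isPrime _
  let y' : Ideal (S ⊗[C] B) := x'.comap (algebraMap (S ⊗[C] B) (S ⊗[C] A))
  haveI : y'.IsPrime := Ideal.comap_isPrime _ _
  have hy' : ∀ z : (S ⊗[C] B), z ∈ y' ↔ P (algebraMap (S ⊗[C] B) (S ⊗[C] A) z) = 0 := fun z => Iff.rfl
  haveI : y'.IsMaximal := by
    have hc : y'.comap (algebraMap S (S ⊗[C] B)) = maximalIdeal S := by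
      ext s
      rw [Ideal.mem_comap, hy', hPS, hpS]
    exact Ideal.isMaximal_of_isIntegral_of_isMaximal_comap (R := S) y' (hc ▸ inferInstance)
  obtain ⟨ε, hε, hεy, huniq⟩ := Henz21.exists_idempotent_isolating (A := S) y'
  have hεy1 : 1 - ε ∈ y' := (IdemOrbit.mem_or_one_sub_mem hε y').resolve_left hεy
  -- the local factor
  let IL : Ideal (S ⊗[C] B) := Ideal.span {1 - ε}
  let L := (S ⊗[C] B) ⧸ IL
  have hILy : IL ≤ y' := (Ideal.span_singleton_le_iff_mem _).2 hεy1
  haveI : Nontrivial L := Ideal.Quotient.nontrivial_iff.2 fun h => Ideal.IsPrime.ne_top inferInstance (top_le_iff.1 (h ▸ hILy))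
  haveI : IsLocalRing L := by
    refine IsLocalRing.of_unique_max_ideal ⟨y'.map (Ideal.Quotient.mk IL), ?_, fun M hM => ?_⟩
    · exact Ideal.IsMaximal.map_of_surjective_of_ker_le Ideal.Quotient.mk_surjective (by rwa [Ideal.mk_ker])
    · have hMc : (M.comap (Ideal.Quotient.mk IL)).IsMaximal :=
        Ideal.comap_isMaximal_of_surjective _ Ideal.Quotient.mk_surjective
      have hεM : ε ∉ M.comap (Ideal.Quotient.mk IL) := fun h => by
        refine hM.ne_top ((Ideal.eq_top_iff_one _).2 ?_)
        have h1 : Ideal.Quotient.mk IL (1 - ε) = 0 := Ideal.Quotient.eq_zero_iff_mem.2 (Ideal.mem_span_singleton_self _)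
        rw [map_sub, map_one, sub_eq_zero] at h1
        rw [h1]
        exact h
      rw [← huniq _ hMc hεM, Ideal.map_comap_of_surjective _ Ideal.Quotient.mk_surjective]
  haveI : Algebra.IsIntegral S L := Algebra.IsIntegral.of_finite S L
  haveI : HenselianLocalRing L := Henz21.henselianLocalRing_of_isIntegral (A := S)
  let ψL : L →+* Ω := Ideal.Quotient.lift IL ((P : (S ⊗[C] A) →+* Ω).comp (algebraMap (S ⊗[C] B) (S ⊗[C] A))) fun z hz => (hy' z).1 (hILy hz)
  have hψ : ∀ z : (S ⊗[C] B), ψL (Ideal.Quotient.mk IL z) = P (algebraMap (S ⊗[C] B) (S ⊗[C] A) z) := fun z => rfl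
  haveI : IsLocalHom ψL := ⟨fun l hl => by
    obtain ⟨z, rfl⟩ := Ideal.Quotient.mk_surjective l
    by_contra h
    have hz : z ∈ y' := by
      have h1 : (Ideal.Quotient.mk IL z) ∈ y'.map (Ideal.Quotient.mk IL) := by
        rw [IsLocalRing.eq_maximalIdeal (Ideal.IsMaximal.map_of_surjective_of_ker_le Ideal.Quotient.mk_surjective
          (show RingHom.ker (Ideal.Quotient.mk IL) ≤ y' by rwa [Ideal.mk_ker]))]
        exact h
      rw [← Ideal.mem_comap, Ideal.comap_map_quotientMk, sup_eq_right.2 hILy] at h1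
      exact h1
    rw [hψ, (hy' z).1 hz] at hl
    exact not_isUnit_zero hl⟩
  haveI : IsLocalHom (algebraMap S L) := ⟨fun s hs => by
    have h1 : IsUnit (pS s) := by rw [← hPS, ← hψ]; exact hs.map ψL
    exact IsLocalRing.notMem_maximalIdeal.1 fun h => h1.ne_zero ((hpS s).2 h)⟩
  let K := ResidueField L
  let ψ : K →+* Ω := ResidueField.lift ψL
  have hψr : ∀ l : L, ψ (residue L l) = ψL l := fun l => ResidueField.lift_residue_apply ψL l
  haveI : Algebra.IsIntegral S K := Algebra.IsIntegral.of_surjective (IsScalarTower.toAlgHom S L K) residue_surjective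
  haveI : Algebra.IsIntegral (ResidueField S) K := Algebra.IsIntegral.tower_top (R := S)
  haveI : Algebra.IsAlgebraic (ResidueField S) K := Algebra.IsIntegral.isAlgebraic
  haveI : IsSepClosed K := Algebra.IsAlgebraic.isSepClosed (F := ResidueField S)
  -- the section
  letI : Algebra B L := ((Ideal.Quotient.mk IL).comp
    (Algebra.TensorProduct.includeRight : B →ₐ[C] (S ⊗[C] B)).toRingHom).toAlgebra
  have hBL : ∀ b : B, algebraMap B L b = Ideal.Quotient.mk IL ((1 : S) ⊗ₜ[C] b) := fun b => rfl
  have hψB : ∀ b : B, ψL (algebraMap B L b) = pA (algebraMap B A b) := fun b => by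
    rw [hBL, hψ, hφt, hP, map_one, one_mul]
  let y : Ideal B := x.comap (algebraMap B A)
  haveI : x.LiesOver y := ⟨rfl⟩
  letI := Localization.AtPrime.algebraOfLiesOver y x
  haveI : Algebra.IsUnramifiedAt B x := inferInstance
  haveI hsep : Algebra.IsSeparable y.ResidueField x.ResidueField :=
    ((Algebra.isUnramifiedAt_iff_map_eq B y x).1 inferInstance).1
  let px : x.ResidueField →+* Ω := Ideal.ResidueField.lift x pA.toRingHom
    (fun a ha => (hpA a).2 ha) (fun a ha => isUnit_iff_ne_zero.2 fun h => ha ((hpA a).1 h))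
  have hpx : ∀ a : A, px (algebraMap A x.ResidueField a) = pA a := fun a => Ideal.ResidueField.lift_algebraMap ..
  have hyK : ∀ b : B, b ∈ y ↔ residue L (algebraMap B L b) = 0 := fun b => by
    rw [← ψ.injective.eq_iff, map_zero, hψr, hψB, hpA]
    rfl
  let j : y.ResidueField →+* K := Ideal.ResidueField.lift y ((residue L).comp (algebraMap B L))
    (fun b hb => (hyK b).1 hb) (fun b hb => isUnit_iff_ne_zero.2 fun h => hb ((hyK b).2 h))
  have hj : ψ.comp j = px.comp (algebraMap y.ResidueField x.ResidueField) := by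
    refine Ideal.ResidueField.ringHom_ext (RingHom.ext fun b => ?_)
    simp only [RingHom.comp_apply]
    rw [show j (algebraMap B y.ResidueField b) = residue L (algebraMap B L b) from Ideal.ResidueField.lift_algebraMap ..,
      hψr, hψB, ← IsScalarTower.algebraMap_apply B y.ResidueField x.ResidueField,
      IsScalarTower.algebraMap_apply B A x.ResidueField, hpx]
  have hrange : ∀ a : A, ∃ k : K, ψ k = pA a := by
    intro a
    letI : Algebra K Ω := ψ.toAlgebra
    let q := (minpoly y.ResidueField (algebraMap A x.ResidueField a)).map j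
    have hq0 : (minpoly y.ResidueField (algebraMap A x.ResidueField a)).Monic :=
      minpoly.monic (Algebra.IsIntegral.isIntegral _)
    have hqsep : q.Separable :=
      Polynomial.Separable.map (Algebra.IsSeparable.isSeparable y.ResidueField (algebraMap A x.ResidueField a))
    have hqz : Polynomial.aeval (pA a) q = 0 := by
      rw [Polynomial.aeval_def, Polynomial.eval₂_map, show (algebraMap K Ω).comp j = ψ.comp j from rfl, hj, ← hpx,
        ← Polynomial.hom_eval₂, ← Polynomial.aeval_def, minpoly.aeval, map_zero]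
    have hint : IsIntegral K (pA a) := ⟨q, hq0.map j, by rw [← Polynomial.aeval_def]; exact hqz⟩
    exact minpoly.mem_range_of_degree_eq_one K (pA a) (IsSepClosed.degree_eq_one_of_irreducible K
      (minpoly.irreducible hint) (Polynomial.Separable.of_dvd hqsep (minpoly.dvd K _ hqz)))
  obtain ⟨f, hfx, hfe⟩ := Algebra.exists_etale_of_isEtaleAt (R := B) x
  let pf : Localization.Away f →+* Ω := IsLocalization.Away.lift f
    (isUnit_iff_ne_zero.2 fun h => hfx ((hpA f).1 h) : IsUnit (pA.toRingHom f))
  have hpf : ∀ a, pf (algebraMap A _ a) = pA a := fun a => IsLocalization.Away.lift_eq _ _ a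
  have hpfr : ∀ z, pf z ∈ ψ.fieldRange := by
    intro z
    obtain ⟨a, ⟨s, hs⟩, rfl⟩ := IsLocalization.exists_mk'_eq (Submonoid.powers f) z
    have h1 := congrArg pf (IsLocalization.mk'_spec (Localization.Away f) a ⟨s, hs⟩)
    rw [map_mul, hpf, hpf] at h1
    have hs0 : pA s ≠ 0 := by
      obtain ⟨n, rfl⟩ := hs
      rw [map_pow]
      exact pow_ne_zero _ fun h => hfx ((hpA f).1 h)
    rw [eq_div_iff hs0 |>.2 h1]
    exact div_mem (RingHom.mem_fieldRange.2 (hrange a)) (RingHom.mem_fieldRange.2 (hrange s))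
  let θ : Localization.Away f →+* K :=
    (RingEquiv.ofBijective ψ.rangeRestrictField ψ.rangeRestrictField_bijective).symm.toRingHom.comp
      (pf.codRestrict ψ.fieldRange hpfr)
  have hθ : ∀ z, ψ (θ z) = pf z := fun z =>
    congrArg Subtype.val ((RingEquiv.ofBijective ψ.rangeRestrictField ψ.rangeRestrictField_bijective).apply_symm_apply _)
  let θB : Localization.Away f →ₐ[B] K :=
    { θ with commutes' := fun b => ψ.injective (by
        show ψ (θ (algebraMap B _ b)) = _
        rw [hθ, IsScalarTower.algebraMap_apply B A (Localization.Away f), hpf,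
          IsScalarTower.algebraMap_apply B L K, ResidueField.algebraMap_eq, hψr, hψB]) }
  obtain ⟨σA, hσA, -⟩ := Henz21.existsUnique_lift (R := B) (T := L) θB
  let sA : A → L := fun a => σA (algebraMap A _ a)
  have hsA : ∀ a, ψL (sA a) = pA a := fun a => by
    rw [← hψr, show residue L (sA a) = θB (algebraMap A _ a) from DFunLike.congr_fun hσA _]
    exact (hθ _).trans (hpf a)
  let σA' : A →ₐ[C] L :=
    { toRingHom := σA.toRingHom.comp (algebraMap A (Localization.Away f))
      commutes' := fun c => by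
        show σA (algebraMap A _ (algebraMap C A c)) = _
        rw [IsScalarTower.algebraMap_apply C B A, ← IsScalarTower.algebraMap_apply B A (Localization.Away f),
          AlgHom.commutes, hBL, ← Algebra.TensorProduct.tmul_one_eq_one_tmul]
        rfl }
  let σT : (S ⊗[C] A) →ₐ[C] L := Algebra.TensorProduct.productMap (IsScalarTower.toAlgHom C S L) σA'
  let σ : (S ⊗[C] A) →ₐ[(S ⊗[C] B)] L :=
    { toRingHom := σT.toRingHom
      commutes' := fun z => by
        show σT (algebraMap (S ⊗[C] B) (S ⊗[C] A) z) = _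
        induction z with
        | zero => simp
        | add p q hp hq => simp only [map_add, hp, hq]
        | tmul s b =>
          rw [hφt, Algebra.TensorProduct.productMap_apply_tmul]
          show algebraMap S L s * σA (algebraMap A _ (algebraMap B A b)) = _
          rw [← IsScalarTower.algebraMap_apply B A (Localization.Away f), AlgHom.commutes, hBL]
          show Ideal.Quotient.mk IL (algebraMap S (S ⊗[C] B) s) * _ = Ideal.Quotient.mk IL (s ⊗ₜ[C] b)
          rw [← map_mul, Algebra.TensorProduct.algebraMap_apply, Algebra.TensorProduct.tmul_mul_tmul]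
          simp }
  have hσP : ∀ t : (S ⊗[C] A), ψL (σ t) = P t := by
    intro t
    show ψL (σT t) = P t
    induction t with
    | zero => simp
    | add p q hp hq => simp only [map_add, hp, hq]
    | tmul s a =>
      rw [Algebra.TensorProduct.productMap_apply_tmul, map_mul, hP,
        show ψL (σA' a) = pA a from hsA a]
      congr 1
      exact hPS s
  haveI : Algebra.FiniteType (S ⊗[C] B) (S ⊗[C] A) := by
    obtain ⟨s, hs⟩ := (inferInstance : Algebra.FiniteType B A).out
    refine ⟨⟨s.image fun a => (1 : S) ⊗ₜ[C] a, ?_⟩⟩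
    rw [eq_top_iff]
    rintro z -
    induction z with
    | zero => exact Subalgebra.zero_mem _
    | add p q hp hq => exact Subalgebra.add_mem _ hp hq
    | tmul r a =>
      rw [show r ⊗ₜ[C] a = algebraMap (S ⊗[C] B) (S ⊗[C] A) (r ⊗ₜ[C] (1 : B)) * ((1 : S) ⊗ₜ[C] a) by
        rw [hφt, map_one, Algebra.TensorProduct.tmul_mul_tmul, mul_one, one_mul]]
      refine Subalgebra.mul_mem _ (Subalgebra.algebraMap_mem _ _) ?_
      have ha : a ∈ Algebra.adjoin B (s : Set A) := hs ▸ Algebra.mem_top
      induction ha using Algebra.adjoin_induction with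
      | mem a ha => exact Algebra.subset_adjoin (by simpa using ⟨a, ha, rfl⟩)
      | algebraMap b => rw [← hφt]; exact Subalgebra.algebraMap_mem _ _
      | add a c _ _ ha hc => rw [TensorProduct.tmul_add]; exact Subalgebra.add_mem _ ha hc
      | mul a c _ _ ha hc =>
        rw [show (1 : S) ⊗ₜ[C] (a * c) = ((1 : S) ⊗ₜ[C] a) * ((1 : S) ⊗ₜ[C] c) by
          rw [Algebra.TensorProduct.tmul_mul_tmul, one_mul]]
        exact Subalgebra.mul_mem _ ha hc
  obtain ⟨e, he, hσe, hsurj, hker⟩ := exists_section_idem (T := S ⊗[C] A) hε σ (by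
    intro Q _ _ f₁ f₂ N hN hsub hunit
    letI : Algebra B Q := ((algebraMap (S ⊗[C] B) Q).comp
      (Algebra.TensorProduct.includeRight : B →ₐ[C] (S ⊗[C] B)).toRingHom).toAlgebra
    let ι : A →+* (S ⊗[C] A) := (Algebra.TensorProduct.includeRight : A →ₐ[C] (S ⊗[C] A)).toRingHom
    let g₁ : A →ₐ[B] Q :=
      { f₁.toRingHom.comp ι with commutes' := fun b => f₁.commutes ((1 : S) ⊗ₜ[C] b) }
    let g₂ : A →ₐ[B] Q :=
      { f₂.toRingHom.comp ι with commutes' := fun b => f₂.commutes ((1 : S) ⊗ₜ[C] b) }
    have hu1 : ∀ a : x.primeCompl, IsUnit (g₁ a) := fun a => hunit _ (by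
      have h1 : ψL (σ ((1 : S) ⊗ₜ[C] (a : A))) ≠ 0 := by
        rw [hσP, hP, map_one, one_mul]
        exact fun h => a.2 ((hpA _).1 h)
      exact IsUnit.of_map ψL _ (isUnit_iff_ne_zero.2 h1))
    have hsq : ∀ n ∈ N, IsNilpotent n := fun n hn => ⟨2, by
      have := Ideal.pow_mem_pow hn 2
      rwa [hN] at this⟩
    have hu2 : ∀ a : x.primeCompl, IsUnit (g₂ a) := fun a => by
      have h := (hsq _ (hsub (ι a))).neg.isUnit_add_left_of_commute (hu1 a) (Commute.all _ _)
      have e1 : g₁ a + -(f₁ (ι a) - f₂ (ι a)) = g₂ a := by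
        show f₁ (ι a) + -(f₁ (ι a) - f₂ (ι a)) = f₂ (ι a)
        ring
      rwa [e1] at h
    let l₁ : Localization.AtPrime x →ₐ[B] Q := IsLocalization.liftAlgHom (M := x.primeCompl) hu1
    let l₂ : Localization.AtPrime x →ₐ[B] Q := IsLocalization.liftAlgHom (M := x.primeCompl) hu2
    have hl₁ : ∀ a, l₁ (algebraMap A _ a) = g₁ a := fun a => IsLocalization.lift_eq _ a
    have hl₂ : ∀ a, l₂ (algebraMap A _ a) = g₂ a := fun a => IsLocalization.lift_eq _ a
    have hll : l₁ = l₂ := Algebra.FormallyUnramified.lift_unique N ⟨2, hN⟩ _ _ (by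
      refine IsLocalization.algHom_ext x.primeCompl (AlgHom.ext fun a => ?_)
      show Ideal.Quotient.mk N (l₁ (algebraMap A _ a)) = Ideal.Quotient.mk N (l₂ (algebraMap A _ a))
      rw [hl₁, hl₂, Ideal.Quotient.eq]
      exact hsub _)
    have hgg : ∀ a : A, f₁ ((1 : S) ⊗ₜ[C] a) = f₂ ((1 : S) ⊗ₜ[C] a) := fun a => by
      have := DFunLike.congr_fun hll (algebraMap A _ a)
      rwa [hl₁, hl₂] at this
    refine AlgHom.ext fun t => ?_
    induction t with
    | zero => simp
    | add p q hp hq => simp only [map_add, hp, hq]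
    | tmul r a =>
      rw [show r ⊗ₜ[C] a = algebraMap (S ⊗[C] B) (S ⊗[C] A) (r ⊗ₜ[C] (1 : B)) * ((1 : S) ⊗ₜ[C] a) by
        rw [hφt, map_one, Algebra.TensorProduct.tmul_mul_tmul, mul_one, one_mul],
        map_mul, map_mul, AlgHom.commutes, AlgHom.commutes, hgg])
  have hPe : P e = 1 := by rw [← hσP, hσe, map_one]
  have hex : e ∉ x' := fun h => one_ne_zero (hPe.symm.trans h)
  -- stabilizers
  have hstab : ∀ g : G, g • ε = ε → ∀ t, t ∉ x' → g • t ∉ x' := by
    intro g hg t ht
    suffices h : P (g • t) = P t from fun h' => ht (show P t = 0 from h ▸ h')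
    let τ : (S ⊗[C] B) →+* (S ⊗[C] B) := MulSemiringAction.toRingHom G (S ⊗[C] B) g
    have hτy : y'.comap τ = y' := by
      refine huniq _ (Ideal.comap_isMaximal_of_surjective τ fun z => ⟨g⁻¹ • z, smul_inv_smul g z⟩) ?_
      show g • ε ∉ y'
      rw [hg]; exact hεy
    have hτI : IL ≤ IL.comap τ := (Ideal.span_singleton_le_iff_mem _).2 (by
      show g • (1 - ε) ∈ IL
      rw [smul_sub, smul_one, hg]; exact Ideal.mem_span_singleton_self _)
    let τL : L →+* L := Ideal.quotientMap IL τ hτI
    haveI : IsLocalHom τL := ⟨fun l hl => by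
      obtain ⟨z, rfl⟩ := Ideal.Quotient.mk_surjective l
      refine IsUnit.of_map ψL _ (isUnit_iff_ne_zero.2 fun h0 => ?_)
      have hz : z ∈ y'.comap τ := hτy.symm ▸ (hy' z).2 h0
      exact (hl.map ψL).ne_zero ((hy' _).1 hz)⟩
    let τK : K →+* K := ResidueField.map τL
    letI : Algebra (ResidueField S) Ω := (ψ.comp (algebraMap (ResidueField S) K)).toAlgebra
    let a₁ : K →ₐ[ResidueField S] Ω := { ψ with commutes' := fun _ => rfl }
    let a₂ : K →ₐ[ResidueField S] Ω :=
      { ψ.comp τK with
        commutes' := fun c => by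
          obtain ⟨s, rfl⟩ := residue_surjective c
          show ψ (τK (residue L (algebraMap S L s))) = ψ (residue L (algebraMap S L s))
          rw [show τK (residue L (algebraMap S L s)) = residue L (τL (algebraMap S L s)) from ResidueField.map_residue _ _]
          congr 2
          show Ideal.Quotient.mk IL (g • algebraMap S (S ⊗[C] B) s) = _
          rw [smul_algebraMap]
          rfl }
    have hag : a₁ = a₂ := Subsingleton.elim _ _
    have hB0 : ∀ b : B, pA (algebraMap B A (g • b)) = pA (algebraMap B A b) := fun b => by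
      have := DFunLike.congr_fun hag (residue L (algebraMap B L b))
      change ψ (residue L (algebraMap B L b)) = ψ (τK (residue L (algebraMap B L b))) at this
      rw [show τK (residue L (algebraMap B L b)) = residue L (τL (algebraMap B L b)) from ResidueField.map_residue _ _,
        hψr, hψr, hψB, show τL (algebraMap B L b) = algebraMap B L (g • b) from (congrArg (Ideal.Quotient.mk IL) (hgB g 1 b)),
        hψB] at this
      exact this.symm
    have hA0 : ∀ a : A, pA (g • a) = pA a := fun a => by
      rw [← sub_eq_zero, ← map_sub, hpA]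
      exact hin g (fun b => by rw [← hpA, map_sub, map_sub, hB0, sub_self]) a
    clear ht
    induction t using TensorProduct.induction_on with
    | zero => simp
    | tmul r a => rw [hgA, hP, hP, hA0]
    | add p q hp hq => simp only [smul_add, map_add, hp, hq]
  obtain ⟨E, hE, hEfix, hEx, hEsurj, hEker⟩ :=
    IdemOrbit.exists_invariant_idem (S := S) (T := S ⊗[C] A) hφg hinvB hinjS y' hε hεy huniq x' he hex hsurj hker hstab
  -- descend to the invariants upstairs
  let jD : (S ⊗[C] D) →ₐ[S] (S ⊗[C] A) := Algebra.TensorProduct.map (AlgHom.id S S) (IsScalarTower.toAlgHom C D A)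
  have hjinj : Function.Injective jD :=
    Module.Flat.lTensor_preserves_injective_linearMap (R := C) (M := S) (IsScalarTower.toAlgHom C D A).toLinearMap hDinj
  have hjfix : ∀ (g : G) (z : (S ⊗[C] D)), g • jD z = jD z := by
    intro g z
    induction z with
    | zero => simp
    | add p q hp hq => simp only [map_add, smul_add, hp, hq]
    | tmul r d =>
      show g • (r ⊗ₜ[C] algebraMap D A d) = r ⊗ₜ[C] algebraMap D A d
      rw [hgA, hDfix]
  obtain ⟨E₀, hE₀⟩ := exists_of_fixed C S A G D (IsScalarTower.toAlgHom C D A) hA E hEfix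
  change jD E₀ = E at hE₀
  have hr : ∀ z : (S ⊗[C] D), ∃ s : S, E * jD z = E * algebraMap S (S ⊗[C] A) s := fun z => hEsurj _ fun g => hjfix g z
  choose ρ hρ using hr
  have hρu : ∀ z s, E * jD z = E * algebraMap S (S ⊗[C] A) s → ρ z = s := fun z s h => by
    rw [← sub_eq_zero]
    exact hEker _ (by rw [map_sub, mul_sub, ← hρ, h, sub_self])
  let π : (S ⊗[C] D) →ₐ[S] S :=
    { toFun := ρ
      map_one' := hρu _ _ (by rw [map_one, map_one])
      map_mul' := fun a b => hρu _ _ (by rw [map_mul, map_mul, ← mul_assoc, hρ, mul_right_comm, hρ]; ring)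
      map_zero' := hρu _ _ (by rw [map_zero, map_zero])
      map_add' := fun a b => hρu _ _ (by rw [map_add, map_add, mul_add, mul_add, hρ, hρ])
      commutes' := fun s => hρu _ _ (by rw [AlgHom.commutes]; rfl) }
  have hEP : P E = 1 := by
    have h1 : P E * P E = P E := by rw [← map_mul, hE.eq]
    rcases IsIdempotentElem.iff_eq_zero_or_one.1 h1 with h | h
    · exact absurd h hEx
    · exact h
  refine ⟨(π.restrictScalars C).comp Algebra.TensorProduct.includeRight, fun d => ?_, ?_⟩
  · have h1 := congrArg P (hρ ((1 : S) ⊗ₜ[C] d))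
    rw [map_mul, map_mul, hEP, one_mul, one_mul, IsScalarTower.algebraMap_apply S (S ⊗[C] B) (S ⊗[C] A), hPS] at h1
    rw [show jD ((1 : S) ⊗ₜ[C] d) = (1 : S) ⊗ₜ[C] algebraMap D A d from rfl, hP, map_one, one_mul] at h1
    exact h1.symm
  · have hπflat : π.toRingHom.Flat := by
      refine ringHom_flat_of_idem π.toRingHom (algebraMap S (S ⊗[C] D)) E₀ (fun s => π.commutes s) (fun z => hjinj ?_) ?_
      · rw [map_mul, map_mul, hE₀]
        exact (hρ z).trans (congrArg (E * ·) (jD.commutes _).symm)
      · exact hρu _ _ (by rw [hE₀, map_one, mul_one, hE.eq])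
    have hinc : (Algebra.TensorProduct.includeRight : D →ₐ[C] (S ⊗[C] D)).toRingHom.Flat := by
      have h := (RingHom.flat_algebraMap_iff (R := D) (S := D ⊗[C] S)).2 inferInstance
      have h2 := h.comp (RingHom.Flat.of_bijective (f := (Algebra.TensorProduct.comm C D S).toAlgHom.toRingHom)
        (Algebra.TensorProduct.comm C D S).bijective)
      convert h2 using 1
      ext d
      simp [Algebra.TensorProduct.algebraMap_apply]
    exact hinc.comp hπflat

end Groth.Agent.FinGrp34
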