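import Groth.Prelude.Def_GLin
import Mathlib.RingTheory.TensorProduct.Free
import Mathlib.RingTheory.HopfAlgebra.Convolution
import Mathlib.LinearAlgebra.Charpoly.Basic
import Mathlib.LinearAlgebra.Charpoly.ToMatrix
import Mathlib.RingTheory.Adjoin.Tower
import Mathlib.RingTheory.IntegralClosure.IsIntegralClosure.Basic
import Mathlib.RingTheory.FiniteType
import Mathlib.Algebra.Algebra.Bilinear

/-!
An algebra with a coaction of a finite group scheme is integral over its invariants.
-/

universe u v w

open TensorProduct HopfRep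

noncomputable section

namespace Groth.Agent.FinGrp34

variable {k : Type u} [Field k] {A : Type v} [CommRing A] [HopfAlgebra k A]
variable (R : Type w) [CommRing R] [Algebra k R]

variable (k A) in
/-- `s ⊗ b ↦ (s ⊗ 1)(Δ b)` -/
def twistHom : (R ⊗[k] A) ⊗[k] A →ₐ[R ⊗[k] A] (R ⊗[k] A) ⊗[k] A :=
  Algebra.TensorProduct.lift (Algebra.ofId _ _)
    ((Algebra.TensorProduct.map (Algebra.TensorProduct.includeRight : A →ₐ[k] R ⊗[k] A) (AlgHom.id k A)).comp
      (Bialgebra.comulAlgHom k A))
    (fun _ _ => .all _ _)

variable (k A) in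
/-- `s ⊗ b ↦ (s ⊗ 1)(S b₁ ⊗ b₂)` -/
def untwistHom : (R ⊗[k] A) ⊗[k] A →ₐ[R ⊗[k] A] (R ⊗[k] A) ⊗[k] A :=
  Algebra.TensorProduct.lift (Algebra.ofId _ _)
    ((Algebra.TensorProduct.map ((Algebra.TensorProduct.includeRight : A →ₐ[k] R ⊗[k] A).comp
        (HopfAlgebra.antipodeAlgHom k A)) (AlgHom.id k A)).comp (Bialgebra.comulAlgHom k A))
    (fun _ _ => .all _ _)

theorem twistHom_tmul (s : R ⊗[k] A) (b : A) :
    twistHom k A R (s ⊗ₜ[k] b) = (s ⊗ₜ[k] 1) *
      Algebra.TensorProduct.map Algebra.TensorProduct.includeRight (AlgHom.id k A) (CoalgebraStruct.comul (R := k) b) := by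
  simp [twistHom, Algebra.ofId_apply]

theorem untwistHom_tmul (s : R ⊗[k] A) (b : A) :
    untwistHom k A R (s ⊗ₜ[k] b) = (s ⊗ₜ[k] 1) *
      Algebra.TensorProduct.map ((Algebra.TensorProduct.includeRight : A →ₐ[k] R ⊗[k] A).comp
        (HopfAlgebra.antipodeAlgHom k A)) (AlgHom.id k A) (CoalgebraStruct.comul (R := k) b) := by
  simp [untwistHom, Algebra.ofId_apply]

theorem twist_untwist : (twistHom k A R).comp (untwistHom k A R) = AlgHom.id _ _ := by
  refine Algebra.TensorProduct.ext (Subsingleton.elim _ _) (AlgHom.ext fun b => ?_)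
  simp only [AlgHom.comp_apply, AlgHom.coe_restrictScalars', Algebra.TensorProduct.includeRight_apply,
    untwistHom_tmul, ← Algebra.TensorProduct.one_def, one_mul, AlgHom.id_apply]
  have e : ∀ v : A ⊗[k] A, twistHom k A R (Algebra.TensorProduct.map
      ((Algebra.TensorProduct.includeRight : A →ₐ[k] R ⊗[k] A).comp (HopfAlgebra.antipodeAlgHom k A))
      (AlgHom.id k A) v) =
      (Algebra.TensorProduct.includeRight : A →ₐ[k] R ⊗[k] A).toLinearMap.rTensor A
        (LinearMap.rTensor A (LinearMap.mul' k A ∘ₗ (HopfAlgebraStruct.antipode (R := k) (A := A)).rTensor A)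
          ((TensorProduct.assoc k A A A).symm ((CoalgebraStruct.comul (R := k) (A := A)).lTensor A v))) := by
    intro v
    induction v with
    | zero => simp
    | add p q hp hq => simp only [map_add, hp, hq]
    | tmul p q =>
      simp only [Algebra.TensorProduct.map_tmul, AlgHom.id_apply, twistHom_tmul, LinearMap.lTensor_tmul]
      generalize CoalgebraStruct.comul (R := k) q = z
      induction z with
      | zero => simp
      | add x y hx hy => simp only [TensorProduct.tmul_add, map_add, mul_add, hx, hy]
      | tmul x y => simp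
  have hk : ∀ y : A ⊗[k] A, LinearMap.rTensor A (LinearMap.mul' k A ∘ₗ (HopfAlgebraStruct.antipode (R := k) (A := A)).rTensor A)
      ((CoalgebraStruct.comul (R := k) (A := A)).rTensor A y) =
      (Algebra.linearMap k A).rTensor A ((CoalgebraStruct.counit (R := k) (A := A)).rTensor A y) := fun y => by
    rw [← LinearMap.rTensor_comp_apply, ← LinearMap.rTensor_comp_apply, LinearMap.comp_assoc, HopfAlgebra.mul_antipode_rTensor_comul]
  rw [e, Coalgebra.coassoc_symm_apply, hk, Coalgebra.rTensor_counit_comul]
  simp [Algebra.TensorProduct.one_def]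

theorem untwist_twist : (untwistHom k A R).comp (twistHom k A R) = AlgHom.id _ _ := by
  refine Algebra.TensorProduct.ext (Subsingleton.elim _ _) (AlgHom.ext fun b => ?_)
  simp only [AlgHom.comp_apply, AlgHom.coe_restrictScalars', Algebra.TensorProduct.includeRight_apply,
    twistHom_tmul, ← Algebra.TensorProduct.one_def, one_mul, AlgHom.id_apply]
  have e : ∀ v : A ⊗[k] A, untwistHom k A R (Algebra.TensorProduct.map
      (Algebra.TensorProduct.includeRight : A →ₐ[k] R ⊗[k] A) (AlgHom.id k A) v) =
      (Algebra.TensorProduct.includeRight : A →ₐ[k] R ⊗[k] A).toLinearMap.rTensor A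
        (LinearMap.rTensor A (LinearMap.mul' k A ∘ₗ (HopfAlgebraStruct.antipode (R := k) (A := A)).lTensor A)
          ((TensorProduct.assoc k A A A).symm ((CoalgebraStruct.comul (R := k) (A := A)).lTensor A v))) := by
    intro v
    induction v with
    | zero => simp
    | add p q hp hq => simp only [map_add, hp, hq]
    | tmul p q =>
      simp only [Algebra.TensorProduct.map_tmul, AlgHom.id_apply, untwistHom_tmul, LinearMap.lTensor_tmul]
      generalize CoalgebraStruct.comul (R := k) q = z
      induction z with
      | zero => simp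
      | add x y hx hy => simp only [TensorProduct.tmul_add, map_add, mul_add, hx, hy]
      | tmul x y => simp
  have hk : ∀ y : A ⊗[k] A, LinearMap.rTensor A (LinearMap.mul' k A ∘ₗ (HopfAlgebraStruct.antipode (R := k) (A := A)).lTensor A)
      ((CoalgebraStruct.comul (R := k) (A := A)).rTensor A y) =
      (Algebra.linearMap k A).rTensor A ((CoalgebraStruct.counit (R := k) (A := A)).rTensor A y) := fun y => by
    rw [← LinearMap.rTensor_comp_apply, ← LinearMap.rTensor_comp_apply, LinearMap.comp_assoc, HopfAlgebra.mul_antipode_lTensor_comul]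
  rw [e, Coalgebra.coassoc_symm_apply, hk, Coalgebra.rTensor_counit_comul]
  simp [Algebra.TensorProduct.one_def]

variable (k A) in
/-- the twist as an equivalence -/
def twistEquiv : (R ⊗[k] A) ⊗[k] A ≃ₐ[R ⊗[k] A] (R ⊗[k] A) ⊗[k] A :=
  AlgEquiv.ofAlgHom (twistHom k A R) (untwistHom k A R) (twist_untwist R) (untwist_twist R)

variable [Module.Finite k A] [Comod k A R] [GLin.IsCoactAlg k A R]

variable (k A) in
/-- the characteristic polynomial of multiplication on the orbit -/
def orbitPoly (r : R) : Polynomial R :=
  (LinearMap.mulLeft R (Comod.coact (k := k) (A := A) r)).charpoly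

omit [Comod k A R] [GLin.IsCoactAlg k A R] in
theorem map_charpoly_mulLeft {S : Type*} [CommRing S] [Algebra k S] (f : R →ₐ[k] S) (x : R ⊗[k] A) :
    (LinearMap.mulLeft R x).charpoly.map (f : R →+* S) =
      (LinearMap.mulLeft S (Algebra.TensorProduct.map f (AlgHom.id k A) x)).charpoly := by
  classical
  let e := Module.finBasis k A
  rw [← LinearMap.charpoly_toMatrix _ (Algebra.TensorProduct.basis R e),
    ← LinearMap.charpoly_toMatrix _ (Algebra.TensorProduct.basis S e), ← Matrix.charpoly_map]
  congr 1
  ext i j
  simp only [Matrix.map_apply, LinearMap.toMatrix_apply, LinearMap.mulLeft_apply,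
    Algebra.TensorProduct.basis_apply]
  have key : ∀ z : R ⊗[k] A, (f : R →+* S) ((Algebra.TensorProduct.basis R e).repr z i) =
      (Algebra.TensorProduct.basis S e).repr (Algebra.TensorProduct.map f (AlgHom.id k A) z) i := by
    intro z
    induction z with
    | zero => simp
    | add p q hp hq => simp only [map_add, Finsupp.coe_add, Pi.add_apply, hp, hq]
    | tmul p a => simp
  rw [key, map_mul, Algebra.TensorProduct.map_tmul, map_one, AlgHom.id_apply]

theorem orbitPoly_coeff_mem (r : R) (i : ℕ) : (orbitPoly k A R r).coeff i ∈ GLin.invariants k A R := by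
  show Comod.coact (k := k) (A := A) _ = _ ⊗ₜ[k] (1 : A)
  have h0 := map_charpoly_mulLeft (A := A) R (Algebra.TensorProduct.includeLeft : R →ₐ[k] R ⊗[k] A)
    (Comod.coact (k := k) (A := A) r)
  have h1 := map_charpoly_mulLeft (A := A) R (GLin.coactAlgHom k A R) (Comod.coact (k := k) (A := A) r)
  set x0 := Algebra.TensorProduct.map (Algebra.TensorProduct.includeLeft : R →ₐ[k] R ⊗[k] A) (AlgHom.id k A)
    (Comod.coact (k := k) (A := A) r)
  set x1 := Algebra.TensorProduct.map (GLin.coactAlgHom k A R) (AlgHom.id k A) (Comod.coact (k := k) (A := A) r)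
  have hx : twistEquiv k A R x0 = x1 := by
    have h := LinearMap.congr_fun (Comod.coassoc (k := k) (A := A) (V := R)) r
    simp only [LinearMap.comp_apply, LinearEquiv.coe_coe] at h
    have e1 : ∀ z : R ⊗[k] A, Algebra.TensorProduct.map (GLin.coactAlgHom k A R) (AlgHom.id k A) z =
        (Comod.coact (k := k) (A := A)).rTensor A z := fun z => by
      induction z with
      | zero => simp
      | add p q hp hq => simp only [map_add, hp, hq]
      | tmul p a => simp
    have e0 : ∀ z : R ⊗[k] A, twistHom k A R (Algebra.TensorProduct.map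
        (Algebra.TensorProduct.includeLeft : R →ₐ[k] R ⊗[k] A) (AlgHom.id k A) z) =
        (TensorProduct.assoc k R A A).symm ((CoalgebraStruct.comul (R := k) (A := A)).lTensor R z) := fun z => by
      induction z with
      | zero => simp
      | add p q hp hq => simp only [map_add, hp, hq]
      | tmul p a =>
        simp only [Algebra.TensorProduct.map_tmul, AlgHom.id_apply, twistHom_tmul, LinearMap.lTensor_tmul]
        generalize CoalgebraStruct.comul (R := k) a = w
        induction w with
        | zero => simp
        | add x y hx hy => simp only [TensorProduct.tmul_add, map_add, mul_add, hx, hy]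
        | tmul x y => simp
    show twistHom k A R x0 = x1
    rw [show x1 = (Comod.coact (k := k) (A := A)).rTensor A (Comod.coact (k := k) (A := A) r) from e1 _,
      show twistHom k A R x0 = _ from e0 _, ← h, LinearEquiv.symm_apply_apply]
  have hconj : (twistEquiv k A R).toLinearEquiv.conj (LinearMap.mulLeft (R ⊗[k] A) x0) =
      LinearMap.mulLeft (R ⊗[k] A) x1 := by
    refine LinearMap.ext fun z => ?_
    simp only [LinearEquiv.conj_apply_apply, LinearMap.mulLeft_apply, AlgEquiv.toLinearEquiv_apply, map_mul, hx]
    congr 1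
    exact (twistEquiv k A R).apply_symm_apply z
  rw [← hconj, LinearEquiv.charpoly_conj, ← h0] at h1
  have h2 := congrArg (fun p => Polynomial.coeff p i) h1
  simp only [Polynomial.coeff_map] at h2
  exact h2

theorem orbitPoly_eval (r : R) : (orbitPoly k A R r).eval r = 0 := by
  have h := LinearMap.aeval_self_charpoly (LinearMap.mulLeft R (Comod.coact (k := k) (A := A) r))
  rw [show LinearMap.mulLeft R (Comod.coact (k := k) (A := A) r) =
      Algebra.lmul R (R ⊗[k] A) (Comod.coact (k := k) (A := A) r) from rfl,
    Polynomial.aeval_algHom_apply] at h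
  have h2 := LinearMap.congr_fun h 1
  simp only [Algebra.lmul, LinearMap.zero_apply] at h2
  change Polynomial.aeval (Comod.coact (k := k) (A := A) r) (orbitPoly k A R r) * 1 = 0 at h2
  rw [mul_one] at h2
  let εR : R ⊗[k] A →ₐ[R] R :=
    (Algebra.TensorProduct.rid k R R).toAlgHom.comp
      (Algebra.TensorProduct.map (AlgHom.id R R) (Bialgebra.counitAlgHom k A))
  have hε : εR (Comod.coact (k := k) (A := A) r) = r := by
    have h := LinearMap.congr_fun (Comod.counit_comp (k := k) (A := A) (V := R)) r
    simp only [LinearMap.comp_apply] at h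
    have e : ∀ z : R ⊗[k] A, εR z = TensorProduct.rid k R ((CoalgebraStruct.counit (R := k) (A := A)).lTensor R z) :=
      fun z => by
        induction z with
        | zero => simp
        | add p q hp hq => simp only [map_add, hp, hq]
        | tmul p c => simp [εR]
    rw [e, h]
    simp
  have h3 := congrArg εR h2
  rw [← Polynomial.aeval_algHom_apply, hε, map_zero, Polynomial.coe_aeval_eq_eval] at h3
  exact h3

theorem isIntegral_over_invariants : Algebra.IsIntegral (GLin.invariants k A R) R := by
  refine ⟨fun r => ?_⟩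
  rcases subsingleton_or_nontrivial R with hR | hR
  · rw [Subsingleton.elim r 0]; exact isIntegral_zero
  obtain ⟨q, hq, -, hmon⟩ := Polynomial.lifts_and_degree_eq_and_monic
    (f := algebraMap (GLin.invariants k A R) R) (p := orbitPoly k A R r)
    ((Polynomial.lifts_iff_coeff_lifts _).mpr fun i => ⟨⟨_, orbitPoly_coeff_mem R r i⟩, rfl⟩)
    (LinearMap.charpoly_monic _)
  refine ⟨q, hmon, ?_⟩
  rw [← Polynomial.eval_map, hq, orbitPoly_eval]

theorem moduleFinite_over_invariants [Algebra.FiniteType k R] : Module.Finite (GLin.invariants k A R) R := by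
  have := isIntegral_over_invariants (k := k) (A := A) R
  have : Algebra.FiniteType (GLin.invariants k A R) R :=
    Algebra.FiniteType.of_restrictScalars_finiteType k (GLin.invariants k A R) R
  exact Algebra.IsIntegral.finite

theorem finiteType_invariants_of_finite [Algebra.FiniteType k R] :
    Algebra.FiniteType k (GLin.invariants k A R) := by
  have hfin := moduleFinite_over_invariants (k := k) (A := A) R
  exact ⟨fg_of_fg_of_fg k (GLin.invariants k A R) R (inferInstance : Algebra.FiniteType k R).out hfin.fg_top
    Subtype.val_injective⟩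

theorem isNoetherianRing_invariants_of_finite [Algebra.FiniteType k R] :
    IsNoetherianRing (GLin.invariants k A R) :=
  have := finiteType_invariants_of_finite (k := k) (A := A) R
  Algebra.FiniteType.isNoetherianRing k _

end Groth.Agent.FinGrp34
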