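import Groth.Agent.FinGrp34.Grpd
import Groth.Agent.FinGrp34.Integral
import Groth.Agent.LinRed34.Ring
import Mathlib.RingTheory.FiniteType
import Mathlib.RingTheory.Adjoin.Tower
import Mathlib.RingTheory.Ideal.KrullsHeightTheorem
import Mathlib.RingTheory.IntegralClosure.IsIntegralClosure.Basic
import Mathlib.RingTheory.Flat.Basic

/-!
Quotients by finite group schemes: finiteness and the heights of the primes in a fibre.
-/

universe u v

open TensorProduct HopfRep

noncomputable section

namespace Groth.Agent.FinGrp34

variable {k : Type u} [Field k] {H : Type u} [CommRing H] [HopfAlgebra k H] [Module.Finite k H]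
variable (R : Type u) [CommRing R] [Algebra k R] [Comod k H R] [GLin.IsCoactAlg k H R]

local notation "C" => GLin.invariants k H R

variable (k H) in
/-- The untwisting automorphism `r ⊗ a ↦ ρ(r) (1 ⊗ a)`. -/
def shear : R ⊗[k] H ≃ₐ[k] R ⊗[k] H :=
  AlgEquiv.ofAlgHom
    (Algebra.TensorProduct.productMap (GLin.coactAlgHom k H R) Algebra.TensorProduct.includeRight)
    (Algebra.TensorProduct.productMap
      ((Algebra.TensorProduct.map (AlgHom.id k R) (HopfAlgebra.antipodeAlgHom k H)).comp (GLin.coactAlgHom k H R))
      Algebra.TensorProduct.includeRight)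
    (Algebra.TensorProduct.ext (AlgHom.ext fun r => by
      simp only [AlgHom.comp_apply, Algebra.TensorProduct.includeLeft_apply,
        Algebra.TensorProduct.productMap_apply_tmul, map_one, mul_one, GLin.coactAlgHom_apply, AlgHom.id_apply]
      refine Eq.trans ?_ (LinRed34.untwist (k := k) (A := H) r)
      generalize Comod.coact (k := k) (A := H) r = z
      induction z with
      | zero => simp
      | add p q hp hq => simp only [map_add, hp, hq]
      | tmul p a => simp)
      (AlgHom.ext fun a => by simp [GLin.IsCoactAlg.coact_one]))
    (Algebra.TensorProduct.ext (AlgHom.ext fun r => by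
      simp only [AlgHom.comp_apply, Algebra.TensorProduct.includeLeft_apply,
        Algebra.TensorProduct.productMap_apply_tmul, map_one, mul_one, GLin.coactAlgHom_apply, AlgHom.id_apply]
      have e : ∀ z : R ⊗[k] H, (Algebra.TensorProduct.productMap
          ((Algebra.TensorProduct.map (AlgHom.id k R) (HopfAlgebra.antipodeAlgHom k H)).comp (GLin.coactAlgHom k H R))
          Algebra.TensorProduct.includeRight) z =
          (LinearMap.mul' k H ∘ₗ (HopfAlgebraStruct.antipode (R := k) (A := H)).rTensor H).lTensor R
            (TensorProduct.assoc k R H H ((Comod.coact (k := k) (A := H)).rTensor H z)) := by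
        intro z
        induction z with
        | zero => simp
        | add p q hp hq => simp only [map_add, hp, hq]
        | tmul p a =>
          simp only [Algebra.TensorProduct.productMap_apply_tmul, AlgHom.comp_apply, GLin.coactAlgHom_apply,
            LinearMap.rTensor_tmul, Algebra.TensorProduct.includeRight_apply]
          generalize Comod.coact (k := k) (A := H) p = w
          induction w with
          | zero => simp
          | add p q hp hq => simp only [map_add, add_mul, TensorProduct.add_tmul, hp, hq]
          | tmul c d => simp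
      have h := LinearMap.congr_fun (Comod.coassoc (k := k) (A := H) (V := R)) r
      simp only [LinearMap.comp_apply, LinearEquiv.coe_coe] at h
      have h2 := LinearMap.congr_fun (Comod.counit_comp (k := k) (A := H) (V := R)) r
      simp only [LinearMap.comp_apply] at h2
      rw [e, h, ← LinearMap.comp_apply (LinearMap.lTensor R _), ← LinearMap.lTensor_comp, LinearMap.comp_assoc,
        HopfAlgebra.mul_antipode_rTensor_comul, LinearMap.lTensor_comp, LinearMap.comp_apply, h2]
      simp)
      (AlgHom.ext fun a => by simp [GLin.IsCoactAlg.coact_one]))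

theorem shear_tmul_one (r : R) : shear k H R (r ⊗ₜ[k] (1 : H)) = Comod.coact (k := k) (A := H) r := by
  simp [shear, ← Algebra.TensorProduct.one_def]

omit [Comod k H R] [GLin.IsCoactAlg k H R] in
/-- For a finite flat extension, contraction preserves heights. -/
theorem height_under [IsNoetherianRing R] (Q : Ideal (R ⊗[k] H)) [Q.IsPrime] :
    Q.height = (Q.comap (algebraMap R (R ⊗[k] H))).height := by
  have : IsNoetherianRing (R ⊗[k] H) := IsNoetherianRing.of_finite R _
  set p := Q.comap (algebraMap R (R ⊗[k] H))
  have : Q.LiesOver p := ⟨rfl⟩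
  rw [Ideal.height_eq_height_add_of_liesOver_of_hasGoingDown p Q]
  set J := p.map (algebraMap R (R ⊗[k] H))
  have hJQ : J ≤ Q := Ideal.map_comap_le
  have : (Q.map (Ideal.Quotient.mk J)).IsPrime := Ideal.isPrime_map_quotientMk_of_isPrime hJQ
  have h0 : (Q.map (Ideal.Quotient.mk J)).height = 0 := by
    rw [Ideal.height_eq_zero_iff]
    have hmem : Q ∈ J.minimalPrimes := by
      refine ⟨⟨inferInstance, hJQ⟩, fun P hP hPQ => ?_⟩
      by_contra hne
      have hlt : P < Q := lt_of_le_not_ge hPQ hne
      have := hP.1
      have h1 : P.comap (algebraMap R (R ⊗[k] H)) < p := Ideal.IsIntegral.comap_lt_comap hlt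
      exact absurd (Ideal.map_le_iff_le_comap.1 hP.2) (not_le_of_gt h1)
    have h : Q.map (Ideal.Quotient.mk J) ∈ (J.map (Ideal.Quotient.mk J)).minimalPrimes := by
      rw [Ideal.minimalPrimes_map_of_surjective Ideal.Quotient.mk_surjective, Ideal.mk_ker, sup_idem]
      exact ⟨Q, hmem, rfl⟩
    rw [Ideal.map_quotient_self] at h
    exact h
  rw [h0, add_zero]

/-- The primes of one fibre of the quotient map have the same height. -/
theorem height_eq_of_comap_eq [Algebra.FiniteType k R] (q q' : Ideal R) [q.IsPrime] [q'.IsPrime]
    (h : q.comap (algebraMap C R) = q'.comap (algebraMap C R)) : q.height = q'.height := by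
  have : IsNoetherianRing R := Algebra.FiniteType.isNoetherianRing k R
  obtain ⟨Q, hQ, hs, ht⟩ := (grpd (k := k) (H := H) R).exists_arrow (isInvariants_grpd R) q q' h
  let e := (shear k H R).toRingEquiv
  have h1 : Q.height = q'.height := by
    rw [height_under, show Q.comap (algebraMap R (R ⊗[k] H)) = q' from hs]
  have h2 : (Q.comap e).height = q.height := by
    rw [height_under]
    congr 1
    rw [← ht]
    ext r
    show shear k H R (r ⊗ₜ[k] (1 : H)) ∈ Q ↔ _
    rw [shear_tmul_one]
    rfl
  rw [← h1, ← h2, RingEquiv.height_comap]

end Groth.Agent.FinGrp34
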