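import Groth.Agent.FinGrp34.FixedFT
import Groth.Agent.FinGrp34.EtaleInv
import Mathlib.RingTheory.Etale.Locus
import Mathlib.RingTheory.Spectrum.Prime.Jacobson

/-!
Etaleness of the map of invariant subalgebras.
-/

universe u

namespace Groth.Agent.FinGrp34

variable (R : Type u) [CommRing R] [IsNoetherianRing R] (A B : Type u) [CommRing A] [CommRing B]
  [Algebra R A] [Algebra R B] [Algebra.FiniteType R A] [Algebra.FiniteType R B]
  (G : Type u) [Group G] [Finite G] [MulSemiringAction G A] [MulSemiringAction G B]
  [SMulCommClass G R A] [SMulCommClass G R B]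
  [Algebra B A] [IsScalarTower R B A]
  (hGeq : ∀ (g : G) (b : B), algebraMap B A (g • b) = g • algebraMap B A b)
  [Algebra (FixedPoints.subalgebra R B G) (FixedPoints.subalgebra R A G)]
  [IsScalarTower (FixedPoints.subalgebra R B G) (FixedPoints.subalgebra R A G) A]

include hGeq

theorem fixed_finitePresentation :
    Algebra.FinitePresentation (FixedPoints.subalgebra R B G) (FixedPoints.subalgebra R A G) := by
  haveI := fixed_finiteType R A G
  haveI := fixed_isNoetherianRing R B G
  haveI : IsScalarTower R (FixedPoints.subalgebra R B G) (FixedPoints.subalgebra R A G) :=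
    IsScalarTower.of_algebraMap_eq fun r => Subtype.val_injective (by
      show algebraMap R A r = algebraMap (FixedPoints.subalgebra R A G) A
        (algebraMap (FixedPoints.subalgebra R B G) (FixedPoints.subalgebra R A G) (algebraMap R _ r))
      rw [← IsScalarTower.algebraMap_apply (FixedPoints.subalgebra R B G) (FixedPoints.subalgebra R A G) A]
      exact IsScalarTower.algebraMap_apply R B A r)
  haveI : Algebra.FiniteType (FixedPoints.subalgebra R B G) (FixedPoints.subalgebra R A G) :=
    Algebra.FiniteType.of_restrictScalars_finiteType R _ _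
  exact Algebra.FinitePresentation.of_finiteType.1 inferInstance

theorem isEtaleAt_fixed (x : Ideal A) [x.IsPrime] [Algebra.IsEtaleAt B x]
    (hin : x.inertia G = (x.comap (algebraMap B A)).inertia G) :
    Algebra.IsEtaleAt (FixedPoints.subalgebra R B G)
      (x.comap (algebraMap (FixedPoints.subalgebra R A G) A)) := by
  haveI := fixed_smulComm R B G
  haveI : SMulCommClass G (FixedPoints.subalgebra R B G) A := ⟨fun g c a => by
    rw [Algebra.smul_def, Algebra.smul_def, smul_mul']
    congr 1
    show g • algebraMap B A (c : B) = algebraMap B A (c : B)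
    rw [← hGeq, fixed_mem]⟩
  haveI := fixed_module_finite R B G
  haveI := fixed_finitePresentation R A B G hGeq
  haveI : IsNoetherianRing B := Algebra.FiniteType.isNoetherianRing R B
  haveI : Algebra.FiniteType B A := Algebra.FiniteType.of_restrictScalars_finiteType R B A
  haveI : Algebra.FinitePresentation B A := Algebra.FinitePresentation.of_finiteType.1 inferInstance
  refine isEtaleAt_invariants G hGeq (fun b hb => ⟨⟨b, hb⟩, rfl⟩) Subtype.val_injective
    (fun a ha => ⟨⟨a, ha⟩, rfl⟩) (fun g d => fixed_mem R A G d g) Subtype.val_injective x fun g hg a => ?_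
  have hg' : g ∈ (x.comap (algebraMap B A)).inertia G := hg
  rw [← hin] at hg'
  exact hg' a

theorem etale_fixed
    (h : ∀ (x : Ideal A) (_ : x.IsMaximal),
      Algebra.IsEtaleAt B x ∧ x.inertia G = (x.comap (algebraMap B A)).inertia G) :
    Algebra.Etale (FixedPoints.subalgebra R B G) (FixedPoints.subalgebra R A G) := by
  haveI := fixed_finitePresentation R A B G hGeq
  rw [← Algebra.etaleLocus_eq_univ_iff_etale]
  by_contra hne
  obtain ⟨p, hp⟩ := (Set.ne_univ_iff_exists_notMem _).1 hne
  obtain ⟨M, hM, hpM⟩ := Ideal.exists_le_maximal p.asIdeal p.2.ne_top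
  haveI := fixed_smulComm R A G
  haveI := fixed_isInvariant R A G
  haveI : Algebra.IsIntegral (FixedPoints.subalgebra R A G) A := Algebra.IsInvariant.isIntegral _ _ G
  obtain ⟨x, hx, hxM⟩ := Ideal.exists_maximal_ideal_liesOver_of_isIntegral
    (S := A) M
  obtain ⟨he, hin⟩ := h x hx
  haveI := he
  have hM' : (⟨M, hM.isPrime⟩ : PrimeSpectrum _) ∈
      Algebra.etaleLocus (FixedPoints.subalgebra R B G) (FixedPoints.subalgebra R A G) := by
    show Algebra.IsEtaleAt _ M
    have := isEtaleAt_fixed R A B G hGeq x hin
    convert this using 1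
    exact hxM.over
  exact hp (Algebra.isOpen_etaleLocus.stableUnderGeneralization
    ((PrimeSpectrum.le_iff_specializes p ⟨M, hM.isPrime⟩).1 hpM) hM')

end Groth.Agent.FinGrp34
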