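import Mathlib.Algebra.Algebra.Subalgebra.Basic
import Mathlib.RingTheory.Invariant.Basic
import Mathlib.RingTheory.Adjoin.Tower
import Mathlib.RingTheory.FiniteType
import Mathlib.RingTheory.FinitePresentation
import Mathlib.RingTheory.IntegralClosure.Algebra.Basic
import Mathlib.RingTheory.Polynomial.Basic
import Mathlib.Algebra.Algebra.Subalgebra.Operations

/-!
Invariants of a finite group on an algebra of finite type over a Noetherian ring.
-/

universe u v

namespace Groth.Agent.FinGrp34

variable (R : Type u) [CommRing R] (B : Type u) [CommRing B] [Algebra R B]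
  (G : Type v) [Group G] [MulSemiringAction G B] [SMulCommClass G R B]

theorem fixed_mem (c : FixedPoints.subalgebra R B G) (g : G) : g • (c : B) = c := c.2 g

theorem fixed_smulComm : SMulCommClass G (FixedPoints.subalgebra R B G) B :=
  ⟨fun g c b => by
    show g • ((c : B) * b) = (c : B) * g • b
    rw [smul_mul', fixed_mem]⟩

theorem fixed_isInvariant : Algebra.IsInvariant (FixedPoints.subalgebra R B G) B G :=
  ⟨fun b hb => ⟨⟨b, hb⟩, rfl⟩⟩

theorem fixed_module_finite [Finite G] [Algebra.FiniteType R B] :
    Module.Finite (FixedPoints.subalgebra R B G) B := by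
  haveI := fixed_smulComm R B G
  haveI := fixed_isInvariant R B G
  haveI : Algebra.IsIntegral (FixedPoints.subalgebra R B G) B := Algebra.IsInvariant.isIntegral _ _ G
  haveI : Algebra.FiniteType (FixedPoints.subalgebra R B G) B :=
    Algebra.FiniteType.of_restrictScalars_finiteType R _ B
  exact Algebra.IsIntegral.finite

theorem fixed_finiteType [Finite G] [IsNoetherianRing R] [Algebra.FiniteType R B] :
    Algebra.FiniteType R (FixedPoints.subalgebra R B G) :=
  ⟨fg_of_fg_of_fg R (FixedPoints.subalgebra R B G) B Algebra.FiniteType.out
    (fixed_module_finite R B G).fg_top Subtype.val_injective⟩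

theorem fixed_isNoetherianRing [Finite G] [IsNoetherianRing R] [Algebra.FiniteType R B] :
    IsNoetherianRing (FixedPoints.subalgebra R B G) :=
  haveI := fixed_finiteType R B G
  Algebra.FiniteType.isNoetherianRing R _

end Groth.Agent.FinGrp34
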