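import Groth.Agent.Grpd80.GrpdPoints
import Groth.Prelude.Def_GLin
import Mathlib.RingTheory.TensorProduct.Free
import Mathlib.RingTheory.HopfAlgebra.Basic
import Mathlib.LinearAlgebra.Dimension.Free

/-!
The affine groupoid of a finite group scheme acting on an affine scheme.
-/

universe u

open TensorProduct HopfRep

noncomputable section

namespace Groth.Agent.FinGrp34

open Groth.Agent.Grpd80

variable {k : Type u} [Field k] {H : Type u} [CommRing H] [HopfAlgebra k H] [Module.Finite k H]
variable (R : Type u) [CommRing R] [Algebra k R] [Comod k H R] [GLin.IsCoactAlg k H R]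

local notation "C" => GLin.invariants k H R
local notation "B" => R ⊗[k] H
local notation "P" => R ⊗[k] (H ⊗[k] H)

variable (k H) in
/-- a chosen basis of the coordinate ring of the group -/
def bas : Module.Basis (Fin (Module.finrank k H)) k H := Module.finBasis k H

/-- `a ⊗ b ↦ a S(b₁) e*_i(b₂)` -/
def gal (i : Fin (Module.finrank k H)) : H ⊗[k] H →ₗ[k] H :=
  LinearMap.mul' k H ∘ₗ
    (((TensorProduct.rid k H).toLinearMap ∘ₗ
      TensorProduct.map (HopfAlgebraStruct.antipode (R := k) (A := H)) ((bas k H).coord i)) ∘ₗ
        CoalgebraStruct.comul).lTensor H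

theorem gal_smul (i : Fin (Module.finrank k H)) (x : H) (z : H ⊗[k] H) :
    gal i ((x ⊗ₜ[k] (1 : H)) * z) = x * gal i z := by
  induction z with
  | zero => simp
  | tmul a b => simp [gal, mul_assoc]
  | add p q hp hq => simp only [mul_add, map_add, hp, hq]

theorem antipode_comul_lTensor (b : H) :
    LinearMap.rTensor H (LinearMap.mul' k H) ((TensorProduct.assoc k H H H).symm
      (LinearMap.rTensor (H ⊗[k] H) (HopfAlgebraStruct.antipode (R := k) (A := H))
        ((CoalgebraStruct.comul (R := k) (A := H)).lTensor H (CoalgebraStruct.comul (R := k) b)))) =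
      (1 : H) ⊗ₜ[k] b := by
  have h1 : ∀ z : H ⊗[k] (H ⊗[k] H), LinearMap.rTensor H (LinearMap.mul' k H) ((TensorProduct.assoc k H H H).symm
      (LinearMap.rTensor (H ⊗[k] H) (HopfAlgebraStruct.antipode (R := k) (A := H)) z)) =
      LinearMap.rTensor H (LinearMap.mul' k H ∘ₗ (HopfAlgebraStruct.antipode (R := k) (A := H)).rTensor H)
        ((TensorProduct.assoc k H H H).symm z) := by
    intro z
    induction z with
    | zero => simp
    | add p q hp hq => simp only [map_add, hp, hq]
    | tmul a w =>
      induction w with
      | zero => simp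
      | add p q hp hq => simp only [TensorProduct.tmul_add, map_add, hp, hq]
      | tmul c d => simp
  rw [h1, Coalgebra.coassoc_symm_apply, ← LinearMap.comp_apply (LinearMap.rTensor H _),
    ← LinearMap.rTensor_comp, LinearMap.comp_assoc, HopfAlgebra.mul_antipode_rTensor_comul,
    LinearMap.rTensor_comp, LinearMap.comp_apply, Coalgebra.rTensor_counit_comul]
  simp

theorem gal_frame (z : H ⊗[k] H) :
    ∑ i, (gal i z ⊗ₜ[k] (1 : H)) * CoalgebraStruct.comul (R := k) (bas k H i) = z := by
  induction z with
  | zero => simp
  | add p q hp hq => simp only [map_add, TensorProduct.add_tmul, add_mul, Finset.sum_add_distrib, hp, hq]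
  | tmul a b =>
    conv_rhs => rw [← mul_one a, ← one_mul b, ← Algebra.TensorProduct.tmul_mul_tmul,
      ← antipode_comul_lTensor (k := k) b]
    simp only [gal, LinearMap.comp_apply, LinearMap.lTensor_tmul, LinearMap.mul'_apply]
    generalize CoalgebraStruct.comul (R := k) b = w
    induction w with
    | zero => simp
    | add p q hp hq =>
      simp only [map_add, mul_add, TensorProduct.add_tmul, add_mul, Finset.sum_add_distrib, hp, hq]
    | tmul x y =>
      have e : ∀ i, ((a * (TensorProduct.rid k H) (TensorProduct.map (HopfAlgebraStruct.antipode (R := k))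
          ((bas k H).coord i) (x ⊗ₜ[k] y))) ⊗ₜ[k] (1 : H)) * CoalgebraStruct.comul (R := k) (bas k H i) =
          ((a * HopfAlgebraStruct.antipode (R := k) x) ⊗ₜ[k] (1 : H)) *
            CoalgebraStruct.comul (R := k) ((bas k H).coord i y • bas k H i) := by
        intro i
        simp only [TensorProduct.map_tmul, TensorProduct.rid_tmul, mul_smul_comm, ← TensorProduct.smul_tmul',
          map_smul, smul_mul_assoc]
      simp only [LinearEquiv.coe_coe] at e ⊢
      simp only [e, ← Finset.mul_sum, ← map_sum, Module.Basis.coord_apply, Module.Basis.sum_repr,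
        LinearMap.lTensor_tmul]
      generalize CoalgebraStruct.comul (R := k) y = v
      induction v with
      | zero => simp
      | add p q hp hq => simp only [TensorProduct.tmul_add, map_add, mul_add, hp, hq]
      | tmul c d => simp [mul_assoc]

theorem gal_comul (i : Fin (Module.finrank k H)) (a : H) :
    gal i (CoalgebraStruct.comul (R := k) a) = (bas k H).coord i a • (1 : H) := by
  have h1 : ∀ z : H ⊗[k] H, gal i z =
      (TensorProduct.rid k H) (((bas k H).coord i).lTensor H
        (LinearMap.rTensor H (LinearMap.mul' k H ∘ₗ (HopfAlgebraStruct.antipode (R := k) (A := H)).lTensor H)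
          ((TensorProduct.assoc k H H H).symm ((CoalgebraStruct.comul (R := k) (A := H)).lTensor H z)))) := by
    intro z
    induction z with
    | zero => simp
    | add p q hp hq => simp only [map_add, hp, hq]
    | tmul x y =>
      simp only [gal, LinearMap.comp_apply, LinearMap.lTensor_tmul, LinearMap.mul'_apply]
      generalize CoalgebraStruct.comul (R := k) y = w
      induction w with
      | zero => simp
      | add p q hp hq => simp only [TensorProduct.tmul_add, map_add, mul_add, hp, hq]
      | tmul c d => simp
  rw [h1, Coalgebra.coassoc_symm_apply, ← LinearMap.comp_apply (LinearMap.rTensor H _),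
    ← LinearMap.rTensor_comp, LinearMap.comp_assoc, HopfAlgebra.mul_antipode_lTensor_comul,
    LinearMap.rTensor_comp, LinearMap.comp_apply, Coalgebra.rTensor_counit_comul]
  simp

/-- source -/
def srcHom : R →ₐ[C] B :=
  { (Algebra.TensorProduct.includeLeftRingHom : R →+* B) with commutes' := fun _ => rfl }

/-- target -/
def tgtHom : R →ₐ[C] B :=
  { (GLin.coactAlgHom k H R).toRingHom with commutes' := fun c => c.2 }

theorem srcHom_apply (r : R) : srcHom R r = r ⊗ₜ[k] (1 : H) := rfl

theorem tgtHom_apply (r : R) : tgtHom (k := k) (H := H) R r = Comod.coact (k := k) (A := H) r := rfl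

/-- first arrow -/
def p₂Hom : B →ₐ[C] P :=
  { (Algebra.TensorProduct.map (AlgHom.id k R)
      (Algebra.TensorProduct.includeLeft : H →ₐ[k] H ⊗[k] H)).toRingHom with
    commutes' := fun _ => rfl }

/-- composite -/
def μHom : B →ₐ[C] P :=
  { (Algebra.TensorProduct.map (AlgHom.id k R) (Bialgebra.comulAlgHom k H)).toRingHom with
    commutes' := fun c => by
      show (c : R) ⊗ₜ[k] (Bialgebra.comulAlgHom k H 1) = (c : R) ⊗ₜ[k] (1 : H ⊗[k] H)
      rw [map_one] }

/-- second arrow -/
def p₁Hom : B →ₐ[C] P :=
  { ((Algebra.TensorProduct.assoc k k k R H H).toAlgHom.comp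
      (Algebra.TensorProduct.map (GLin.coactAlgHom k H R) (AlgHom.id k H))).toRingHom with
    commutes' := fun c => by
      show (Algebra.TensorProduct.assoc k k k R H H)
        (Algebra.TensorProduct.map (GLin.coactAlgHom k H R) (AlgHom.id k H) ((c : R) ⊗ₜ[k] (1 : H))) = _
      rw [Algebra.TensorProduct.map_tmul, GLin.coactAlgHom_apply,
        show Comod.coact (k := k) (A := H) (c : R) = (c : R) ⊗ₜ[k] (1 : H) from c.2]
      rfl }

/-- identity arrow -/
def εHom : B →ₐ[C] R :=
  { ((Algebra.TensorProduct.rid k k R).toAlgHom.comp
      (Algebra.TensorProduct.map (AlgHom.id k R) (Bialgebra.counitAlgHom k H))).toRingHom with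
    commutes' := fun c => by
      show (Algebra.TensorProduct.rid k k R)
        (Algebra.TensorProduct.map (AlgHom.id k R) (Bialgebra.counitAlgHom k H) ((c : R) ⊗ₜ[k] (1 : H))) = _
      simp }

/-- coordinates along the source -/
def lMap (i : Fin (Module.finrank k H)) : B →ₗ[R] R :=
  (TensorProduct.AlgebraTensorModule.rid k R R).toLinearMap ∘ₗ
    TensorProduct.AlgebraTensorModule.map (LinearMap.id : R →ₗ[R] R) ((bas k H).coord i)

theorem lMap_tmul (i : Fin (Module.finrank k H)) (r : R) (a : H) :
    lMap R i (r ⊗ₜ[k] a) = (bas k H).coord i a • r := by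
  simp [lMap]

/-- coordinates of composable pairs along the composition frame -/
def lμMap (i : Fin (Module.finrank k H)) : P →ₗ[R] B :=
  TensorProduct.AlgebraTensorModule.map (LinearMap.id : R →ₗ[R] R) (gal i)

/-- coordinates of composable pairs along the second arrow -/
def lpMap (i : Fin (Module.finrank k H)) : P →ₗ[R] B :=
  TensorProduct.AlgebraTensorModule.map (LinearMap.id : R →ₗ[R] R)
    ((TensorProduct.rid k H).toLinearMap ∘ₗ ((bas k H).coord i).lTensor H)

theorem p₂Hom_tmul (r : R) (a : H) : p₂Hom R (r ⊗ₜ[k] a) = r ⊗ₜ[k] (a ⊗ₜ[k] (1 : H)) := rfl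

theorem μHom_tmul (r : R) (a : H) :
    μHom R (r ⊗ₜ[k] a) = r ⊗ₜ[k] CoalgebraStruct.comul (R := k) a := rfl

theorem p₁Hom_tmul (r : R) (a : H) :
    p₁Hom R (r ⊗ₜ[k] a) = TensorProduct.assoc k R H H (Comod.coact (k := k) (A := H) r ⊗ₜ[k] a) := by
  show (Algebra.TensorProduct.assoc k k k R H H)
      (Algebra.TensorProduct.map (GLin.coactAlgHom k H R) (AlgHom.id k H) (r ⊗ₜ[k] a)) = _
  rw [Algebra.TensorProduct.map_tmul, GLin.coactAlgHom_apply, AlgHom.id_apply]
  generalize Comod.coact (k := k) (A := H) r = z
  induction z with
  | zero => simp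
  | add p q hp hq => simp only [TensorProduct.add_tmul, map_add, hp, hq]
  | tmul p c => simp

/-- The groupoid ring of the action. -/
def grpd : GrpdRing C R B P where
  s := srcHom R
  t := tgtHom R
  p₁ := p₁Hom R
  p₂ := p₂Hom R
  μ := μHom R
  ε := εHom R
  ε_s r := by
    show (Algebra.TensorProduct.rid k k R)
      (Algebra.TensorProduct.map (AlgHom.id k R) (Bialgebra.counitAlgHom k H) (r ⊗ₜ[k] (1 : H))) = r
    simp
  ε_t r := by
    show (Algebra.TensorProduct.rid k k R)
      (Algebra.TensorProduct.map (AlgHom.id k R) (Bialgebra.counitAlgHom k H) (Comod.coact (k := k) (A := H) r)) = r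
    have h := LinearMap.congr_fun (Comod.counit_comp (k := k) (A := H) (V := R)) r
    simp only [LinearMap.comp_apply] at h
    have e : ∀ z : R ⊗[k] H, Algebra.TensorProduct.map (AlgHom.id k R) (Bialgebra.counitAlgHom k H) z =
        (CoalgebraStruct.counit (R := k) (A := H)).lTensor R z := fun z => by
      induction z with
      | zero => simp
      | add p q hp hq => simp only [map_add, hp, hq]
      | tmul p c => simp
    rw [e, h]
    simp
  μ_t r := by
    show μHom R (Comod.coact (k := k) (A := H) r) = p₁Hom R (Comod.coact (k := k) (A := H) r)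
    have h := LinearMap.congr_fun (Comod.coassoc (k := k) (A := H) (V := R)) r
    simp only [LinearMap.comp_apply, LinearEquiv.coe_coe] at h
    have e1 : ∀ z : B, μHom R z = (CoalgebraStruct.comul (R := k) (A := H)).lTensor R z := fun z => by
      induction z with
      | zero => simp
      | add p q hp hq => simp only [map_add, hp, hq]
      | tmul p c => simp [μHom_tmul]
    have e2 : ∀ z : B, p₁Hom R z = TensorProduct.assoc k R H H ((Comod.coact (k := k) (A := H)).rTensor H z) :=
      fun z => by
        induction z with
        | zero => simp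
        | add p q hp hq => simp only [map_add, hp, hq]
        | tmul p c => simp [p₁Hom_tmul]
    rw [e1, e2, h]
  μ_s r := by
    show μHom R (r ⊗ₜ[k] (1 : H)) = p₂Hom R (r ⊗ₜ[k] (1 : H))
    rw [μHom_tmul, p₂Hom_tmul, Bialgebra.comul_one, Algebra.TensorProduct.one_def]
  p₁_s r := by
    show p₁Hom R (r ⊗ₜ[k] (1 : H)) = p₂Hom R (Comod.coact (k := k) (A := H) r)
    rw [p₁Hom_tmul]
    generalize Comod.coact (k := k) (A := H) r = z
    induction z with
    | zero => simp
    | add p q hp hq => simp only [TensorProduct.add_tmul, map_add, hp, hq]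
    | tmul p c => simp [p₂Hom_tmul]
  n := Module.finrank k H
  x i := 1 ⊗ₜ[k] bas k H i
  l i := (lMap R i).restrictScalars C
  l_smul i r z := by
    simp only [LinearMap.restrictScalars_apply, srcHom_apply]
    rw [show (r ⊗ₜ[k] (1 : H)) * z = r • z from (Algebra.smul_def r z).symm, map_smul, smul_eq_mul]
  frame z := by
    simp only [LinearMap.restrictScalars_apply, srcHom_apply, Algebra.TensorProduct.tmul_mul_tmul,
      mul_one, one_mul]
    induction z with
    | zero => simp
    | add p q hp hq => simp only [map_add, TensorProduct.add_tmul, Finset.sum_add_distrib, hp, hq]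
    | tmul r a =>
      simp only [lMap_tmul, TensorProduct.smul_tmul, ← TensorProduct.tmul_sum, Module.Basis.coord_apply,
        Module.Basis.sum_repr]
  lμ i := (lμMap R i).restrictScalars C
  lμ_smul i b y := by
    simp only [LinearMap.restrictScalars_apply]
    induction b with
    | zero => simp
    | add p q hp hq => simp only [map_add, add_mul, hp, hq]
    | tmul r a =>
      induction y with
      | zero => simp
      | add p q hp hq => simp only [mul_add, map_add, hp, hq]
      | tmul r' w =>
        simp only [p₂Hom_tmul, lμMap, Algebra.TensorProduct.tmul_mul_tmul,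
          TensorProduct.AlgebraTensorModule.map_tmul, LinearMap.id_apply, gal_smul]
  lμ_apply i b := by
    simp only [LinearMap.restrictScalars_apply, srcHom_apply]
    induction b with
    | zero => simp
    | add p q hp hq => simp only [map_add, TensorProduct.add_tmul, hp, hq]
    | tmul r a =>
      simp only [μHom_tmul, lμMap, TensorProduct.AlgebraTensorModule.map_tmul, LinearMap.id_apply,
        gal_comul, lMap_tmul, TensorProduct.smul_tmul]
  frame_μ y := by
    simp only [LinearMap.restrictScalars_apply, μHom_tmul]
    induction y with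
    | zero => simp
    | add p q hp hq => simp only [map_add, add_mul, Finset.sum_add_distrib, hp, hq]
    | tmul r w =>
      simp only [lμMap, TensorProduct.AlgebraTensorModule.map_tmul, LinearMap.id_apply, p₂Hom_tmul,
        Algebra.TensorProduct.tmul_mul_tmul, mul_one, ← TensorProduct.tmul_sum, gal_frame]
  lp i := (lpMap R i).restrictScalars C
  lp_smul i b y := by
    simp only [LinearMap.restrictScalars_apply]
    induction b with
    | zero => simp
    | add p q hp hq => simp only [map_add, add_mul, hp, hq]
    | tmul r a =>
      induction y with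
      | zero => simp
      | add p q hp hq => simp only [mul_add, map_add, hp, hq]
      | tmul r' w =>
        induction w with
        | zero => simp
        | add p q hp hq => simp only [TensorProduct.tmul_add, mul_add, map_add, hp, hq]
        | tmul x y => simp [p₂Hom_tmul, lpMap, mul_smul_comm]
  lp_apply i b := by
    simp only [LinearMap.restrictScalars_apply, tgtHom_apply]
    induction b with
    | zero => simp
    | add p q hp hq => simp only [map_add, hp, hq]
    | tmul r a =>
      rw [p₁Hom_tmul, lMap_tmul, map_smul]
      generalize Comod.coact (k := k) (A := H) r = z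
      induction z with
      | zero => simp
      | add p q hp hq => simp only [TensorProduct.add_tmul, map_add, smul_add, hp, hq]
      | tmul p c => simp [lpMap, TensorProduct.tmul_smul]
  frame_p y := by
    simp only [LinearMap.restrictScalars_apply, p₁Hom_tmul, GLin.IsCoactAlg.coact_one (k := k)]
    induction y with
    | zero => simp
    | add p q hp hq => simp only [map_add, add_mul, Finset.sum_add_distrib, hp, hq]
    | tmul r w =>
      induction w with
      | zero => simp
      | add p q hp hq => simp only [TensorProduct.tmul_add, map_add, add_mul, Finset.sum_add_distrib, hp, hq]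
      | tmul x y =>
        simp only [lpMap, TensorProduct.AlgebraTensorModule.map_tmul, LinearMap.id_apply,
          LinearMap.comp_apply, LinearMap.lTensor_tmul, LinearEquiv.coe_coe, TensorProduct.rid_tmul,
          p₂Hom_tmul, Algebra.TensorProduct.one_def, TensorProduct.assoc_tmul,
          Algebra.TensorProduct.tmul_mul_tmul, mul_one, ← TensorProduct.tmul_sum,
          TensorProduct.smul_tmul, Module.Basis.coord_apply, smul_mul_assoc, one_mul, Module.Basis.sum_repr]

theorem isInvariants_grpd : (grpd (k := k) (H := H) R).IsInvariants := by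
  intro r hr
  exact ⟨⟨r, hr.symm⟩, rfl⟩

end Groth.Agent.FinGrp34
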