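import Mathlib.Algebra.Ring.Action.Basic
import Mathlib.Algebra.Algebra.Basic
import Mathlib.RingTheory.Ideal.Maximal
import Mathlib.RingTheory.Jacobson.Ideal
import Mathlib.RingTheory.Idempotents
import Mathlib.RingTheory.LocalRing.Basic
import Mathlib.Tactic.LinearCombination
import Mathlib.GroupTheory.GroupAction.Quotient
import Mathlib.GroupTheory.Index
import Mathlib.Algebra.BigOperators.Group.Finset.Defs

/-!
A finite group acting compatibly on a finite algebra `B` over a local ring `S` and on a `B`-algebra `T`, with an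
idempotent of `T` isomorphic to a local factor of `B`: the sum of its orbit cuts out a copy of `S` in the invariants.
-/

universe u v

namespace Groth.Agent.FinGrp34.IdemOrbit

variable {B : Type u} [CommRing B]

/-- an idempotent times an idempotent with a single maximal ideal outside it -/
theorem mul_eq_zero_or_self {ε u : B} (hε : IsIdempotentElem ε) (hu : IsIdempotentElem u) (y : Ideal B)
    (huniq : ∀ P : Ideal B, P.IsMaximal → ε ∉ P → P = y) :
    (u ∈ y → ε * u = 0) ∧ (1 - u ∈ y → ε * u = ε) := by
  have key : ∀ w : B, IsIdempotentElem w → w ∈ y → ε * w = 0 := by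
    intro w hw hwy
    have hidem : IsIdempotentElem (ε * w) := hε.mul hw
    have hjac : ε * w ∈ Ideal.jacobson (⊥ : Ideal B) := by
      rw [Ideal.jacobson, Ideal.mem_sInf]
      rintro P ⟨-, hP⟩
      by_cases h : ε ∈ P
      · exact P.mul_mem_right _ h
      · exact P.mul_mem_left _ ((huniq P hP h).symm ▸ hwy)
    have hunit : IsUnit (1 - ε * w) := by
      have h := (Ideal.mem_jacobson_bot.1 hjac) (-1)
      rwa [show ε * w * -1 + 1 = 1 - ε * w by ring] at h
    exact sub_eq_self.1 ((IsIdempotentElem.iff_eq_one_of_isUnit hunit).1 hidem.one_sub)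
  refine ⟨key u hu, fun h => ?_⟩
  have h' := key (1 - u) hu.one_sub h
  rwa [mul_sub, mul_one, sub_eq_zero, eq_comm] at h'

theorem mem_or_one_sub_mem {u : B} (hu : IsIdempotentElem u) (y : Ideal B) [y.IsPrime] : u ∈ y ∨ 1 - u ∈ y :=
  Ideal.IsPrime.mem_or_mem inferInstance (by rw [hu.mul_one_sub_self]; exact y.zero_mem)

variable {S : Type u} [CommRing S] [IsLocalRing S] [Algebra S B]
  {T : Type u} [CommRing T] [Algebra S T] [Algebra B T] [IsScalarTower S B T]
  {G : Type v} [Group G] [Finite G] [MulSemiringAction G B] [SMulCommClass G S B]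
  [MulSemiringAction G T] [SMulCommClass G S T]

theorem exists_invariant_idem (hφ : ∀ (g : G) (b : B), algebraMap B T (g • b) = g • algebraMap B T b)
    (hinv : ∀ b : B, (∀ g : G, g • b = b) → ∃ s : S, algebraMap S B s = b)
    (hinj : Function.Injective (algebraMap S B))
    (y : Ideal B) [y.IsPrime] {ε : B} (hε : IsIdempotentElem ε) (hεy : ε ∉ y)
    (huniq : ∀ P : Ideal B, P.IsMaximal → ε ∉ P → P = y)
    (x : Ideal T) [x.IsPrime] {e : T} (he : IsIdempotentElem e) (hex : e ∉ x)
    (hsurj : ∀ t : T, ∃ b : B, e * t = e * algebraMap B T b)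
    (hker : ∀ b : B, e * algebraMap B T b = 0 ↔ ε * b = 0)
    (hstab : ∀ g : G, g • ε = ε → ∀ t, t ∉ x → g • t ∉ x) :
    ∃ E : T, IsIdempotentElem E ∧ (∀ g : G, g • E = E) ∧ E ∉ x ∧
      (∀ t : T, (∀ g : G, g • t = t) → ∃ s : S, E * t = E * algebraMap S T s) ∧
      ∀ s : S, E * algebraMap S T s = 0 → s = 0 := by
  classical
  cases nonempty_fintype G
  set φ := algebraMap B T with hφdef
  have heq : ∀ b c : B, e * φ b = e * φ c ↔ ε * b = ε * c := fun b c => by
    rw [← sub_eq_zero, ← mul_sub, ← map_sub, hker, mul_sub, sub_eq_zero]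
  have heε : e * φ ε = e := by
    have h := (heq ε 1).2 (by rw [hε.eq, mul_one])
    rwa [map_one, mul_one] at h
  have hε0 : ε ≠ 0 := fun h => hεy (h ▸ y.zero_mem)
  have he0 : ∀ v : T, IsIdempotentElem v → v ∉ x → e * v = e := by
    intro v hv hvx
    obtain ⟨b, hb⟩ := hsurj v
    have hbb : ε * (b * b) = ε * b := (heq _ _).1 (by
      rw [map_mul, ← mul_assoc, ← hb, mul_right_comm, ← hb]
      rw [mul_assoc, hv.eq])
    have hidem : IsIdempotentElem (ε * b) := by
      show ε * b * (ε * b) = ε * b
      rw [mul_mul_mul_comm, hε.eq, hbb]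
    rcases mem_or_one_sub_mem hidem y with h | h
    · exfalso
      have h0 := (mul_eq_zero_or_self hε hidem y huniq).1 h
      rw [← mul_assoc, hε.eq] at h0
      have : e * v = 0 := by rw [hb, hker]; exact h0
      rcases Ideal.IsPrime.mem_or_mem inferInstance (this ▸ x.zero_mem : e * v ∈ x) with h' | h'
      · exact hex h'
      · exact hvx h'
    · have h0 := (mul_eq_zero_or_self hε hidem y huniq).2 h
      rw [← mul_assoc, hε.eq] at h0
      rw [hb, (heq b 1).2 (by rw [h0, mul_one]), map_one, mul_one]
  have hidε : ∀ g : G, IsIdempotentElem (g • ε) := fun g => by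
    show g • ε * g • ε = g • ε
    rw [← smul_mul', hε.eq]
  have hide : ∀ g : G, IsIdempotentElem (g • e) := fun g => by
    show g • e * g • e = g • e
    rw [← smul_mul', he.eq]
  have horth : ∀ g : G, g • ε ≠ ε → ε * g • ε = 0 := by
    intro g hg
    rcases mem_or_one_sub_mem (hidε g) y with h | h
    · exact (mul_eq_zero_or_self hε (hidε g) y huniq).1 h
    · exfalso
      have h1 : ε * g • ε = ε := (mul_eq_zero_or_self hε (hidε g) y huniq).2 h
      have h2 : g⁻¹ • ε * ε = g⁻¹ • ε := by
        have := congrArg (g⁻¹ • ·) h1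
        simpa [smul_mul'] using this
      rcases mem_or_one_sub_mem (hidε g⁻¹) y with h' | h'
      · have h3 := (mul_eq_zero_or_self hε (hidε g⁻¹) y huniq).1 h'
        rw [mul_comm, h2, smul_eq_iff_eq_inv_smul, inv_inv, smul_zero] at h3
        exact hε0 h3
      · have h3 := (mul_eq_zero_or_self hε (hidε g⁻¹) y huniq).2 h'
        rw [mul_comm, h2, inv_smul_eq_iff] at h3
        exact hg h3.symm
  have hfixe : ∀ g : G, g • ε = ε → g • e = e := by
    intro g hg
    have hg' : g⁻¹ • ε = ε := by rw [inv_smul_eq_iff, hg]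
    have h1 := he0 (g • e) (hide g) (hstab g hg e hex)
    have h2 := congrArg (g • ·) (he0 (g⁻¹ • e) (hide _) (hstab g⁻¹ hg' e hex))
    simp [smul_mul'] at h2
    rw [← h2, mul_comm, h1]
  -- the orbit sum
  let P : T := ∏ g : G, (1 - g • e)
  have hPinv : ∀ g : G, g • P = P := fun g => by
    rw [Finset.smul_prod']
    exact Fintype.prod_equiv (Equiv.mulLeft g) _ _ fun h => by simp [smul_sub, mul_smul]
  have hPidem : IsIdempotentElem P := by
    show P * P = P
    rw [← Finset.prod_mul_distrib]
    exact Finset.prod_congr rfl fun g _ => (hide g).one_sub.eq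
  have heP : e * P = 0 := by
    show e * ∏ g : G, (1 - g • e) = 0
    rw [← Finset.mul_prod_erase Finset.univ _ (Finset.mem_univ (1 : G)), one_smul, ← mul_assoc, mul_sub, mul_one,
      he.eq, sub_self, zero_mul]
  have hPx : 1 - P ∉ x := fun h => by
    rcases Ideal.IsPrime.mem_or_mem inferInstance (heP ▸ x.zero_mem : e * P ∈ x) with h' | h'
    · exact hex h'
    · exact Ideal.IsPrime.one_notMem inferInstance (by simpa using x.add_mem h h')
  have hkillP : ∀ t : T, (∀ g : G, g • t = t) → e * t = 0 → (1 - P) * t = 0 := by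
    intro t ht h0
    have hg : ∀ g : G, g • e * t = 0 := fun g => by
      have := congrArg (g • ·) h0
      simpa [smul_mul', ht g] using this
    have hPt : P * t = t := by
      show (∏ g : G, (1 - g • e)) * t = t
      refine Finset.prod_induction _ (fun z => z * t = t) (fun a b ha hb => by rw [mul_assoc, hb, ha]) (one_mul t)
        fun g _ => by rw [sub_mul, one_mul, hg, sub_zero]
    rw [sub_mul, one_mul, hPt, sub_self]
  -- the orbit sum downstairs is one
  have hprod : ∀ s : S, ε * algebraMap S B s = 0 → s = 0 := by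
    intro s hs
    let Q : B := ∏ g : G, (1 - g • ε)
    have hQinv : ∀ g : G, g • Q = Q := fun g => by
      rw [Finset.smul_prod']
      exact Fintype.prod_equiv (Equiv.mulLeft g) _ _ fun h => by simp [smul_sub, mul_smul]
    have hQidem : Q * Q = Q := by
      rw [← Finset.prod_mul_distrib]
      exact Finset.prod_congr rfl fun g _ => (hidε g).one_sub.eq
    obtain ⟨q, hq⟩ := hinv Q hQinv
    have hεQ : ε * Q = 0 := by
      show ε * ∏ g : G, (1 - g • ε) = 0
      rw [← Finset.mul_prod_erase Finset.univ _ (Finset.mem_univ (1 : G)), one_smul, ← mul_assoc, mul_sub, mul_one,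
        hε.eq, sub_self, zero_mul]
    have hqq : IsIdempotentElem q := hinj (by rw [map_mul, hq, hQidem])
    have hq0 : q = 0 := by
      rcases IsLocalRing.isUnit_or_isUnit_of_add_one (add_sub_cancel q 1) with h | h
      · exfalso
        rw [(IsIdempotentElem.iff_eq_one_of_isUnit h).1 hqq, map_one] at hq
        rw [← hq, mul_one] at hεQ
        exact hε0 hεQ
      · exact sub_eq_self.1 ((IsIdempotentElem.iff_eq_one_of_isUnit h).1 hqq.one_sub)
    have hg : ∀ g : G, g • ε * algebraMap S B s = 0 := fun g => by
      have := congrArg (g • ·) hs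
      simpa [smul_mul', smul_algebraMap] using this
    have hQs : Q * algebraMap S B s = algebraMap S B s := by
      show (∏ g : G, (1 - g • ε)) * _ = _
      refine Finset.prod_induction _ (fun z => z * algebraMap S B s = algebraMap S B s)
        (fun a b ha hb => by rw [mul_assoc, hb, ha]) (one_mul _) fun g _ => by rw [sub_mul, one_mul, hg, sub_zero]
    rw [← hq, hq0, map_zero, zero_mul] at hQs
    exact hinj (hQs.symm.trans (map_zero _).symm)
  refine ⟨1 - P, hPidem.one_sub, fun g => by rw [smul_sub, smul_one, hPinv], hPx, fun t ht => ?_, fun s hs => ?_⟩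
  · obtain ⟨b₀, hb₀⟩ := hsurj t
    set b := ε * b₀ with hbdef
    have hb : e * t = e * φ b := by rw [hb₀]; exact (heq _ _).2 (by rw [hbdef, ← mul_assoc, hε.eq])
    have hεb : ε * b = b := by rw [hbdef, ← mul_assoc, hε.eq]
    have hfix : ∀ h : G, h • ε = ε → h • b = b := fun h hh => by
      have h1 := congrArg (h • ·) hb
      simp only [smul_mul', hfixe h hh, ht h] at h1
      rw [← hφ, hb, heq, hεb] at h1
      have h2 := congrArg (h • ·) hεb
      simp only [smul_mul', hh] at h2
      exact (h2.symm.trans h1.symm)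
    let H : Subgroup G := MulAction.stabilizer G ε
    haveI : Finite (G ⧸ H) := Quotient.finite _
    cases nonempty_fintype (G ⧸ H)
    let f : G ⧸ H → B := fun q => Quotient.liftOn' q (fun g => g • b) fun g g' hgg => by
      rw [QuotientGroup.leftRel_apply] at hgg
      have := hfix _ (MulAction.mem_stabilizer_iff.1 hgg)
      rw [mul_smul, inv_smul_eq_iff] at this
      exact this.symm
    have hf : ∀ g : G, f g = g • b := fun _ => rfl
    have hfix' : ∀ g : G, g • (∑ q, f q) = ∑ q, f q := fun g => by
      rw [Finset.smul_sum]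
      refine Fintype.sum_equiv (MulAction.toPerm g) _ _ fun q => ?_
      induction q using QuotientGroup.induction_on with
      | H a => rw [MulAction.toPerm_apply, MulAction.Quotient.smul_coe, hf, hf, smul_eq_mul, mul_smul]
    obtain ⟨s, hs⟩ := hinv _ hfix'
    have hεs : ε * algebraMap S B s = b := by
      rw [hs, Finset.mul_sum, Finset.sum_eq_single ((1 : G) : G ⧸ H)]
      · rw [hf, one_smul, hεb]
      · intro q _ hq
        induction q using QuotientGroup.induction_on with
        | H a =>
          rw [hf, ← hεb, smul_mul', ← mul_assoc, horth a, zero_mul]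
          intro ha
          exact hq (QuotientGroup.eq.2 (by simpa [H, inv_smul_eq_iff] using ha))
      · intro h; exact absurd (Finset.mem_univ _) h
    have h0 : e * (t - algebraMap S T s) = 0 := by
      rw [mul_sub, hb, IsScalarTower.algebraMap_apply S B T, sub_eq_zero, heq, hεb, hεs]
    have h1 := hkillP _ (fun g => by rw [smul_sub, ht, smul_algebraMap]) h0
    rw [mul_sub, sub_eq_zero] at h1
    exact ⟨s, h1⟩
  · refine hprod s ?_
    rw [← hker, ← IsScalarTower.algebraMap_apply S B T]
    have h1 := congrArg (e * ·) hs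
    simpa [← mul_assoc, mul_sub, heP] using h1

end Groth.Agent.FinGrp34.IdemOrbit
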