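import Groth.Agent.FinGrp34.OrbitMap
import Groth.Agent.Comod33.MatrixRep
import Groth.Agent.LinRed34.Basic
import Groth.Prelude.Def_ComodSub
import Mathlib.Algebra.MvPolynomial.Basic
import Mathlib.RingTheory.Localization.Away.Basic

/-!
The polynomial ring of a linear representation; coactions on localisations at invariants;
subspaces stable under all rational points are subcomodules.
-/

set_option autoImplicit false

universe u

open TensorProduct

noncomputable section

namespace Groth.Agent.FinGrp34.PolyComod

variable {k : Type u} [Field k] {A : Type u} [CommRing A] [HopfAlgebra k A]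

local notation "ρ" => HopfRep.Comod.coact (k := k) (A := A)

section Poly

variable {ι : Type u} [Fintype ι] [DecidableEq ι] {c : ι → ι → A}

/-- the substitution coaction of a matrix of functions -/
def polyCoact (c : ι → ι → A) : MvPolynomial ι k →ₐ[k] MvPolynomial ι k ⊗[k] A :=
  MvPolynomial.aeval fun j => ∑ i, MvPolynomial.X i ⊗ₜ[k] c i j

theorem polyCoact_X (j : ι) : polyCoact (k := k) c (MvPolynomial.X j) = ∑ i, MvPolynomial.X i ⊗ₜ[k] c i j :=
  MvPolynomial.aeval_X _ _

theorem coassoc_poly (hc : Comod33.Mat.IsRep (k := k) c) :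
    ((Algebra.TensorProduct.assoc k k k (MvPolynomial ι k) A A).toAlgHom.comp
        ((Algebra.TensorProduct.map (polyCoact (k := k) c) (AlgHom.id k A)).comp (polyCoact (k := k) c))) =
      (Algebra.TensorProduct.map (AlgHom.id k (MvPolynomial ι k)) (Bialgebra.comulAlgHom k A)).comp
        (polyCoact (k := k) c) := by
  refine MvPolynomial.algHom_ext fun j => ?_
  simp only [AlgHom.comp_apply, polyCoact_X, map_sum, Algebra.TensorProduct.map_tmul, AlgHom.id_apply,
    sum_tmul, Bialgebra.comulAlgHom_apply, hc.comul, tmul_sum, AlgHom.coe_coe,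
    Algebra.TensorProduct.assoc_tmul]
  exact Finset.sum_comm

theorem counit_poly (hc : Comod33.Mat.IsRep (k := k) c) :
    (Algebra.TensorProduct.map (AlgHom.id k (MvPolynomial ι k)) (Bialgebra.counitAlgHom k A)).comp
        (polyCoact (k := k) c) = Algebra.TensorProduct.includeLeft := by
  refine MvPolynomial.algHom_ext fun j => ?_
  simp only [AlgHom.comp_apply, polyCoact_X, map_sum, Algebra.TensorProduct.map_tmul, AlgHom.id_apply,
    Bialgebra.counitAlgHom_apply, hc.counit, Algebra.TensorProduct.includeLeft_apply]
  simp [tmul_ite]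

/-- the coaction of a linear representation on the polynomial ring -/
@[reducible] def comod (hc : Comod33.Mat.IsRep (k := k) c) : HopfRep.Comod k A (MvPolynomial ι k) where
  coact := (polyCoact (k := k) c).toLinearMap
  coassoc := LinearMap.ext fun p => by
    refine (congrArg _ ?_).trans ((DFunLike.congr_fun (coassoc_poly hc) p).trans ?_)
    · rfl
    · show Algebra.TensorProduct.map (AlgHom.id k _) (Bialgebra.comulAlgHom k A) (polyCoact (k := k) c p) =
        LinearMap.lTensor _ (CoalgebraStruct.comul (R := k) (A := A)) (polyCoact (k := k) c p)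
      generalize polyCoact (k := k) c p = t
      induction t with
      | zero => simp
      | tmul x y => simp
      | add x y hx hy => simp only [map_add, hx, hy]
  counit_comp := LinearMap.ext fun p => by
    refine Eq.trans ?_ (DFunLike.congr_fun (counit_poly hc) p)
    show LinearMap.lTensor _ (CoalgebraStruct.counit (R := k) (A := A)) (polyCoact (k := k) c p) =
      Algebra.TensorProduct.map (AlgHom.id k _) (Bialgebra.counitAlgHom k A) (polyCoact (k := k) c p)
    generalize polyCoact (k := k) c p = t
    induction t with
    | zero => simp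
    | tmul x y => simp
    | add x y hx hy => simp only [map_add, hx, hy]

theorem isCoactAlg (hc : Comod33.Mat.IsRep (k := k) c) :
    @GLin.IsCoactAlg k _ A _ _ (MvPolynomial ι k) _ _ (comod hc) :=
  @GLin.IsCoactAlg.mk k _ A _ _ (MvPolynomial ι k) _ _ (comod hc) (map_one (polyCoact (k := k) c))
    (map_mul (polyCoact (k := k) c))

variable {R : Type u} [CommRing R] [Algebra k R] [HopfRep.Comod k A R] [GLin.IsCoactAlg k A R]

/-- evaluation at a tuple transforming by the matrix is equivariant -/
theorem coact_aeval (r : ι → R) (hr : ∀ j, ρ (r j) = ∑ i, r i ⊗ₜ[k] c i j) (p : MvPolynomial ι k) :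
    ρ (MvPolynomial.aeval r p) =
      Algebra.TensorProduct.map (MvPolynomial.aeval r) (AlgHom.id k A) (polyCoact (k := k) c p) := by
  suffices h : (GLin.coactAlgHom k A R).comp (MvPolynomial.aeval r) =
      (Algebra.TensorProduct.map (MvPolynomial.aeval r) (AlgHom.id k A)).comp (polyCoact (k := k) c) from
    DFunLike.congr_fun h p
  refine MvPolynomial.algHom_ext fun j => ?_
  simp [polyCoact_X, hr]

end Poly

section Loc

variable {R : Type u} [CommRing R] [Algebra k R] [HopfRep.Comod k A R] [GLin.IsCoactAlg k A R]

/-- the coaction on the localisation at an invariant -/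
theorem exists_comod_away {f : R} (hf : f ∈ GLin.invariants k A R) :
    ∃ (c : HopfRep.Comod k A (Localization.Away f)) (_ : @GLin.IsCoactAlg k _ A _ _ (Localization.Away f) _ _ c),
      ∀ x : R, c.coact (algebraMap R (Localization.Away f) x) =
        Algebra.TensorProduct.map (IsScalarTower.toAlgHom k R (Localization.Away f)) (AlgHom.id k A) (ρ x) := by
  let L := Localization.Away f
  let g : R →ₐ[k] L ⊗[k] A :=
    (Algebra.TensorProduct.map (IsScalarTower.toAlgHom k R L) (AlgHom.id k A)).comp (GLin.coactAlgHom k A R)
  have hgf : g f = algebraMap R L f ⊗ₜ[k] (1 : A) := by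
    show Algebra.TensorProduct.map (IsScalarTower.toAlgHom k R L) (AlgHom.id k A) (ρ f) = _
    rw [(GLin.mem_invariants_iff k A R f).1 hf]
    rfl
  have hu : ∀ y : Submonoid.powers f, IsUnit (g y) := by
    rintro ⟨_, n, rfl⟩
    rw [map_pow]
    refine IsUnit.pow n ?_
    rw [hgf]
    exact (IsLocalization.Away.algebraMap_isUnit f).map (Algebra.TensorProduct.includeLeft : L →ₐ[k] L ⊗[k] A)
  let d : L →ₐ[k] L ⊗[k] A := IsLocalization.liftAlgHom (S := L) (f := g) hu
  have hd : ∀ x : R, d (algebraMap R L x) = g x := fun x => by
    simp [d]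
  have hdd : ∀ x : R, Algebra.TensorProduct.map d (AlgHom.id k A) (g x) =
      Algebra.TensorProduct.map (Algebra.TensorProduct.map (IsScalarTower.toAlgHom k R L) (AlgHom.id k A))
        (AlgHom.id k A) ((HopfRep.Comod.coact (k := k) (A := A) (V := R)).rTensor A (ρ x)) := fun x => by
    show Algebra.TensorProduct.map d (AlgHom.id k A)
      (Algebra.TensorProduct.map (IsScalarTower.toAlgHom k R L) (AlgHom.id k A) (ρ x)) = _
    generalize ρ x = t
    induction t with
    | zero => simp
    | tmul p q => simp [hd, g]
    | add p q hp hq => simp only [map_add, hp, hq]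
  have h1 : (Algebra.TensorProduct.assoc k k k L A A).toAlgHom.comp
        ((Algebra.TensorProduct.map d (AlgHom.id k A)).comp d) =
      (Algebra.TensorProduct.map (AlgHom.id k L) (Bialgebra.comulAlgHom k A)).comp d := by
    refine IsLocalization.algHom_ext (Submonoid.powers f) (AlgHom.ext fun x => ?_)
    show Algebra.TensorProduct.assoc k k k L A A (Algebra.TensorProduct.map d (AlgHom.id k A) (d (algebraMap R L x))) =
      Algebra.TensorProduct.map (AlgHom.id k L) (Bialgebra.comulAlgHom k A) (d (algebraMap R L x))
    rw [hd, hdd]
    have := DFunLike.congr_fun (‹HopfRep.Comod k A R›.coassoc) x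
    simp only [LinearMap.comp_apply, LinearEquiv.coe_coe] at this
    show Algebra.TensorProduct.assoc k k k L A A _ = Algebra.TensorProduct.map (AlgHom.id k L) (Bialgebra.comulAlgHom k A)
      (Algebra.TensorProduct.map (IsScalarTower.toAlgHom k R L) (AlgHom.id k A) (ρ x))
    have e1 : ∀ z : (R ⊗[k] A) ⊗[k] A, Algebra.TensorProduct.assoc k k k L A A
        (Algebra.TensorProduct.map (Algebra.TensorProduct.map (IsScalarTower.toAlgHom k R L) (AlgHom.id k A))
          (AlgHom.id k A) z) =
        LinearMap.rTensor (A ⊗[k] A) (IsScalarTower.toAlgHom k R L).toLinearMap (TensorProduct.assoc k R A A z) := by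
      intro z
      induction z with
      | zero => simp
      | add p q hp hq => simp only [map_add, hp, hq]
      | tmul p q =>
        induction p with
        | zero => simp
        | tmul s t => simp
        | add s t hs ht => simp only [add_tmul, map_add, hs, ht]
    rw [e1, this]
    generalize ρ x = t
    induction t with
    | zero => simp
    | tmul p q => simp
    | add p q hp hq => simp only [map_add, hp, hq]
  have h2 : (Algebra.TensorProduct.map (AlgHom.id k L) (Bialgebra.counitAlgHom k A)).comp d =
      Algebra.TensorProduct.includeLeft := by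
    refine IsLocalization.algHom_ext (Submonoid.powers f) (AlgHom.ext fun x => ?_)
    show Algebra.TensorProduct.map (AlgHom.id k L) (Bialgebra.counitAlgHom k A) (d (algebraMap R L x)) =
      algebraMap R L x ⊗ₜ[k] (1 : k)
    rw [hd]
    have := DFunLike.congr_fun (‹HopfRep.Comod k A R›.counit_comp) x
    simp only [LinearMap.comp_apply, LinearMap.flip_apply, TensorProduct.mk_apply] at this
    show Algebra.TensorProduct.map (AlgHom.id k L) (Bialgebra.counitAlgHom k A)
      (Algebra.TensorProduct.map (IsScalarTower.toAlgHom k R L) (AlgHom.id k A) (ρ x)) = _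
    have e : ∀ z : R ⊗[k] A, Algebra.TensorProduct.map (AlgHom.id k L) (Bialgebra.counitAlgHom k A)
        (Algebra.TensorProduct.map (IsScalarTower.toAlgHom k R L) (AlgHom.id k A) z) =
        LinearMap.rTensor k (IsScalarTower.toAlgHom k R L).toLinearMap
          (LinearMap.lTensor R (CoalgebraStruct.counit (R := k) (A := A)) z) := by
      intro z
      induction z with
      | zero => simp
      | tmul p q => simp
      | add p q hp hq => simp only [map_add, hp, hq]
    rw [e, this]
    simp
  let c : HopfRep.Comod k A L :=
    { coact := d.toLinearMap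
      coassoc := LinearMap.ext fun p => by
        refine Eq.trans ?_ ((DFunLike.congr_fun h1 p).trans ?_)
        · rfl
        · show Algebra.TensorProduct.map (AlgHom.id k L) (Bialgebra.comulAlgHom k A) (d p) =
            LinearMap.lTensor L (CoalgebraStruct.comul (R := k) (A := A)) (d p)
          generalize d p = t
          induction t with
          | zero => simp
          | tmul x y => simp
          | add x y hx hy => simp only [map_add, hx, hy]
      counit_comp := LinearMap.ext fun p => by
        refine Eq.trans ?_ (DFunLike.congr_fun h2 p)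
        show LinearMap.lTensor L (CoalgebraStruct.counit (R := k) (A := A)) (d p) =
          Algebra.TensorProduct.map (AlgHom.id k L) (Bialgebra.counitAlgHom k A) (d p)
        generalize d p = t
        induction t with
        | zero => simp
        | tmul x y => simp
        | add x y hx hy => simp only [map_add, hx, hy] }
  exact ⟨c, @GLin.IsCoactAlg.mk k _ A _ _ L _ _ c (map_one d) (map_mul d), hd⟩

end Loc

section Stable

variable [IsAlgClosed k] [Algebra.FiniteType k A] [IsReduced A]
  {R : Type u} [CommRing R] [Algebra k R] [HopfRep.Comod k A R] [GLin.IsCoactAlg k A R]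

/-- A subspace stable under all rational points is a subcomodule. -/
theorem isSubcomod_of_stable {I : Submodule k R}
    (h : ∀ g : A →ₐ[k] k, ∀ r ∈ I, OrbitMap.actHom A R g r ∈ I) : HopfRep.IsSubcomod (k := k) (A := A) I := by
  intro r hr
  have hex : Function.Exact (I.subtype.rTensor A) (I.mkQ.rTensor A) :=
    rTensor_exact A (LinearMap.exact_subtype_mkQ I) (Submodule.mkQ_surjective I)
  refine LinearMap.mem_range.2 ((hex _).1 ?_)
  refine Comod33.eq_of_lc fun ℓ => ?_
  rw [map_zero]
  refine Hopf35.Stable.eq_zero_of_points (k := k) fun ψ => ?_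
  show ψ.toLinearMap _ = 0
  rw [Comod33.apply_lc, Comod33.rc_rTensor, ← Comod33.dact_apply, ← Comod33.act_eq_dact, ← OrbitMap.actHom_apply]
  rw [show I.mkQ (OrbitMap.actHom A R ψ r) = 0 from (Submodule.Quotient.mk_eq_zero I).2 (h ψ r hr),
    map_zero]

omit [IsAlgClosed k] [Algebra.FiniteType k A] [IsReduced A] in
/-- Equivariant maps commute with the operators of points. -/
theorem map_actHom {S : Type u} [CommRing S] [Algebra k S] [HopfRep.Comod k A S] [GLin.IsCoactAlg k A S]
    {φ : S →ₐ[k] R} (hφ : ∀ s : S, ρ (φ s) = Algebra.TensorProduct.map φ (AlgHom.id k A) (ρ s))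
    (g : A →ₐ[k] k) (s : S) : OrbitMap.actHom A R g (φ s) = φ (OrbitMap.actHom A S g s) := by
  show (Algebra.TensorProduct.rid k k R) (Algebra.TensorProduct.map (AlgHom.id k R) g (ρ (φ s))) =
    φ ((Algebra.TensorProduct.rid k k S) (Algebra.TensorProduct.map (AlgHom.id k S) g (ρ s)))
  rw [hφ]
  generalize ρ s = z
  induction z with
  | zero => simp
  | tmul p q => simp
  | add p q hp hq => simp only [map_add, hp, hq]

/-- The kernel of an equivariant map is a subcomodule. -/
theorem isSubcomod_ker {S : Type u} [CommRing S] [Algebra k S] [HopfRep.Comod k A S] [GLin.IsCoactAlg k A S]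
    {φ : R →ₐ[k] S} (hφ : ∀ s : R, ρ (φ s) = Algebra.TensorProduct.map φ (AlgHom.id k A) (ρ s)) :
    HopfRep.IsSubcomod (k := k) (A := A) ((RingHom.ker φ).restrictScalars k) :=
  isSubcomod_of_stable fun g r hr => by
    show φ (OrbitMap.actHom A R g r) = 0
    rw [← map_actHom hφ g r, show φ r = 0 from hr, map_zero]

end Stable

end Groth.Agent.FinGrp34.PolyComod
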