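import Mathlib.RingTheory.ZariskisMainTheorem
import Mathlib.RingTheory.RingHom.QuasiFinite
import Mathlib.RingTheory.Localization.Away.Basic

/-!
The quasi-finite locus: criterion by finite fibres, openness, transport, and passage to global quasi-finiteness.
-/

set_option autoImplicit false

universe u

noncomputable section

namespace Groth.Agent.FinGrp34.QFLocus

variable {S P : Type u} [CommRing S] [CommRing P] [Algebra S P]

/-- A point with finite fibre is a quasi-finite point. -/
theorem quasiFiniteAt_of_finite_fibre [Algebra.FiniteType S P] (q : PrimeSpectrum P)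
    (h : (PrimeSpectrum.comap (algebraMap S P) ⁻¹' {q.comap (algebraMap S P)}).Finite) :
    Algebra.QuasiFiniteAt S q.asIdeal := by
  let p := q.comap (algebraMap S P)
  let e := PrimeSpectrum.preimageHomeomorphFiber S P p
  haveI : IsJacobsonRing (p.asIdeal.Fiber P) := isJacobsonRing_of_finiteType (A := p.asIdeal.ResidueField)
  haveI : Finite (PrimeSpectrum (p.asIdeal.Fiber P)) := by
    haveI := h.to_subtype
    exact Finite.of_equiv _ e.toEquiv
  haveI : DiscreteTopology (PrimeSpectrum (p.asIdeal.Fiber P)) := inferInstance
  haveI := e.symm.discreteTopology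
  exact Algebra.QuasiFiniteAt.of_isOpen_singleton_fiber q (isOpen_discrete _)

/-- The quasi-finite locus is open. -/
theorem exists_basicOpen_subset [Algebra.FiniteType S P] (q : PrimeSpectrum P)
    (h : Algebra.QuasiFiniteAt S q.asIdeal) :
    ∃ r ∉ q.asIdeal, ∀ q' : PrimeSpectrum P, r ∉ q'.asIdeal → Algebra.QuasiFiniteAt S q'.asIdeal := by
  obtain ⟨r, hr, hint, hm⟩ :=
    Algebra.zariskisMainProperty_iff.1 (Algebra.ZariskisMainProperty.of_finiteType (R := S) q.asIdeal)
  exact ⟨r, hr, fun q' hr' =>
    Algebra.ZariskisMainProperty.quasiFiniteAt _ (Algebra.zariskisMainProperty_iff.2 ⟨r, hr', hint, hm⟩)⟩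

/-- The non-quasi-finite locus is closed. -/
theorem isClosed_bad [Algebra.FiniteType S P] :
    IsClosed {q : PrimeSpectrum P | ¬ Algebra.QuasiFiniteAt S q.asIdeal} := by
  rw [← isOpen_compl_iff]
  refine isOpen_iff_forall_mem_open.2 fun q hq => ?_
  obtain ⟨r, hr, h⟩ := exists_basicOpen_subset q (not_not.1 hq)
  exact ⟨PrimeSpectrum.basicOpen r, fun q' hq' => not_not_intro (h q' hq'), (PrimeSpectrum.basicOpen r).isOpen, hr⟩

/-- Transport of the quasi-finite locus along compatible automorphisms. -/
theorem quasiFiniteAt_of_comap (σ : P ≃+* P) (σ' : S ≃+* S)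
    (hc : ∀ s, σ (algebraMap S P s) = algebraMap S P (σ' s)) (q : Ideal P) [q.IsPrime]
    (h : Algebra.QuasiFiniteAt S (q.comap σ.toRingHom)) : Algebra.QuasiFiniteAt S q := by
  let e := Localization.localRingHom (q.comap σ.toRingHom) q σ.toRingHom rfl
  have he : Function.Surjective e :=
    RingHom.surjectiveOnStalks_of_surjective (f := σ.toRingHom) σ.surjective q ‹_›
  have h1 : (algebraMap S (Localization.AtPrime q)).comp σ'.toRingHom =
      e.comp (algebraMap S (Localization.AtPrime (q.comap σ.toRingHom))) := by
    ext s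
    rw [RingHom.comp_apply, RingHom.comp_apply, IsScalarTower.algebraMap_apply S P (Localization.AtPrime q),
      IsScalarTower.algebraMap_apply S P (Localization.AtPrime (q.comap σ.toRingHom)),
      Localization.localRingHom_to_map]
    exact (congrArg _ (hc s)).symm
  have h2 : ((algebraMap S (Localization.AtPrime q)).comp σ'.toRingHom).QuasiFinite := by
    rw [h1]
    exact (RingHom.QuasiFinite.of_finite (RingHom.Finite.of_surjective e he)).comp
      (RingHom.quasiFinite_algebraMap.2 h)
  exact RingHom.quasiFinite_algebraMap.1 (RingHom.QuasiFinite.of_comp h2)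

/-- Quasi-finite at every point means quasi-finite. -/
theorem quasiFinite_of_forall [Algebra.FiniteType S P]
    (h : ∀ q : PrimeSpectrum P, Algebra.QuasiFiniteAt S q.asIdeal) : Algebra.QuasiFinite S P := by
  refine Algebra.QuasiFinite.iff_finite_comap_preimage_singleton.2 fun x => ?_
  let e := PrimeSpectrum.preimageHomeomorphFiber S P x
  haveI : CompactSpace (PrimeSpectrum.comap (algebraMap S P) ⁻¹' {x}) := e.symm.compactSpace
  haveI : DiscreteTopology (PrimeSpectrum.comap (algebraMap S P) ⁻¹' {x}) := by
    refine discreteTopology_iff_isOpen_singleton.2 ?_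
    rintro ⟨q, rfl⟩
    exact (Algebra.quasiFiniteAt_iff_isOpen_singleton_fiber q).1 (h q)
  exact Set.finite_coe_iff.1 finite_of_compact_of_discrete

/-- Quasi-finiteness after inverting a function vanishing on the bad locus. -/
theorem quasiFinite_away [Algebra.FiniteType S P] (f : P)
    (h : ∀ q : PrimeSpectrum P, f ∉ q.asIdeal → Algebra.QuasiFiniteAt S q.asIdeal) :
    Algebra.QuasiFinite S (Localization.Away f) := by
  haveI : Algebra.FiniteType P (Localization.Away f) := IsLocalization.finiteType_of_monoid_fg (Submonoid.powers f) _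
  haveI : Algebra.FiniteType S (Localization.Away f) := Algebra.FiniteType.trans ‹Algebra.FiniteType S P› this
  refine quasiFinite_of_forall fun Q => ?_
  let q := Q.comap (algebraMap P (Localization.Away f))
  have hf : f ∉ q.asIdeal := fun hf => Q.2.ne_top
    (Ideal.eq_top_of_isUnit_mem _ hf (IsLocalization.Away.algebraMap_isUnit f))
  haveI := h q hf
  exact Algebra.QuasiFiniteAt.of_surjectiveOnStalks q.asIdeal (IsScalarTower.toAlgHom S P (Localization.Away f))
    (RingHom.surjectiveOnStalks_of_isLocalization (Submonoid.powers f) _) Q.asIdeal rfl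

end Groth.Agent.FinGrp34.QFLocus
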