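import Groth.Agent.Comod33.Units
import Groth.Agent.Comod33.Diag
import Groth.Agent.LinRed34.Points
import Groth.Agent.Zeta24.CharFG

/-!
Invariant fractions on a factorial affine variety with group action; semi-invariants.
-/

universe u

open TensorProduct

noncomputable section

namespace Groth.Agent.FinGrp34.SemiInvFrac

open Groth.Agent.Comod33

variable {k : Type u} [Field k] {A : Type u} [CommRing A] [HopfAlgebra k A]
  {B : Type u} [CommRing B] [Algebra k B] [HopfRep.Comod k A B] [GLin.IsCoactAlg k A B]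

local notation "ρ" => HopfRep.Comod.coact (k := k) (A := A)

theorem evR_eq_rc {V : Type u} [CommRing V] [Algebra k V] (ψ : A →ₐ[k] k) (z : V ⊗[k] A) :
    Units.evR ψ z = rc ψ.toLinearMap z := by
  induction z with
  | zero => simp
  | tmul a b => rw [Units.evR_tmul, rc_tmul]; rfl
  | add p q hp hq => simp only [map_add, hp, hq]

theorem act_eq_evR (φ : A →ₐ[k] k) (b : B) : HopfRep.Comod.act k A B φ b = Units.evR φ (ρ b) :=
  (evR_eq_rc φ (ρ b)).symm

theorem act_map_mul (φ : A →ₐ[k] k) (a b : B) :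
    HopfRep.Comod.act k A B φ (a * b) = HopfRep.Comod.act k A B φ a * HopfRep.Comod.act k A B φ b := by
  rw [act_eq_evR, act_eq_evR, act_eq_evR, GLin.IsCoactAlg.coact_mul, map_mul]

theorem act_map_one (φ : A →ₐ[k] k) : HopfRep.Comod.act k A B φ 1 = 1 := by
  rw [act_eq_evR, GLin.IsCoactAlg.coact_one (k := k) (A := A) (R := B), map_one]

theorem act_inv_act (φ : A →ₐ[k] k) (b : B) :
    HopfRep.Comod.act k A B φ (HopfRep.Comod.act k A B ((WithConv.toConv φ)⁻¹).ofConv b) = b := by
  rw [← Module.End.mul_apply]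
  show (HopfRep.Comod.act k A B (WithConv.toConv φ).ofConv * _) b = b
  rw [← act_mul, mul_inv_cancel, act_one, Module.End.one_apply]

theorem act_injective (φ : A →ₐ[k] k) : Function.Injective (HopfRep.Comod.act k A B φ) := fun a b h => by
  have h1 := act_inv_act (B := B) ((WithConv.toConv φ)⁻¹).ofConv a
  have h2 := act_inv_act (B := B) ((WithConv.toConv φ)⁻¹).ofConv b
  simp only [WithConv.toConv_ofConv, inv_inv, WithConv.ofConv_toConv] at h1 h2
  rw [← h1, ← h2, h]

variable [IsAlgClosed k] [Algebra.FiniteType k A] [IsReduced A]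

theorem eq_zero_of_points {a : A} (h : ∀ g : A →ₐ[k] k, g a = 0) : a = 0 := by
  haveI : IsJacobsonRing A := isJacobsonRing_of_finiteType (A := k)
  have hm : a ∈ (⊥ : Ideal A).jacobson := by
    refine Ideal.mem_sInf.2 fun {m} hm => ?_
    haveI := hm.2
    obtain ⟨g, rfl⟩ := Aug.exists_point_ker (k := k) m
    exact h g
  rw [← Ideal.radical_eq_jacobson] at hm
  obtain ⟨n, hn⟩ := hm
  exact IsNilpotent.eq_zero ⟨n, hn⟩

theorem eq_of_forall_evR {V : Type u} [CommRing V] [Algebra k V] {x y : V ⊗[k] A}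
    (h : ∀ ψ : A →ₐ[k] k, Units.evR ψ x = Units.evR ψ y) : x = y := by
  refine eq_of_lc fun ℓ => ?_
  rw [← sub_eq_zero, ← map_sub]
  refine eq_zero_of_points (k := k) fun ψ => ?_
  show ψ.toLinearMap _ = 0
  rw [apply_lc, ← evR_eq_rc, map_sub, h, sub_self, map_zero]

/-- An element on which every point acts by a scalar spans the line of a character. -/
theorem exists_char {a : B} (ha : a ≠ 0) (h : ∀ φ : A →ₐ[k] k, ∃ c : k, HopfRep.Comod.act k A B φ a = c • a) :
    ∃ χ : A, IsGroupLikeElem k χ ∧ ρ a = a ⊗ₜ[k] χ ∧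
      ∀ φ : A →ₐ[k] k, HopfRep.Comod.act k A B φ a = φ χ • a := by
  obtain ⟨ℓ, hℓ⟩ := Module.Projective.exists_dual_eq_one k ha
  have hs : ∀ φ : A →ₐ[k] k, HopfRep.Comod.act k A B φ a = φ (lc ℓ (ρ a)) • a := fun φ => by
    obtain ⟨c, hc⟩ := h φ
    have h1 : φ (lc ℓ (ρ a)) = ℓ (HopfRep.Comod.act k A B φ a) := apply_lc φ.toLinearMap ℓ (ρ a)
    rw [h1, hc, map_smul, hℓ, smul_eq_mul, mul_one]
  have hco : ρ a = a ⊗ₜ[k] lc ℓ (ρ a) := eq_of_forall_evR fun φ => by
    rw [Units.evR_tmul, ← act_eq_evR, hs]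
  generalize lc ℓ (ρ a) = χ at hco hs
  refine ⟨χ, ⟨?_, ?_⟩, hco, hs⟩
  · have h1 := LinearMap.congr_fun (HopfRep.Comod.counit_comp (k := k) (A := A) (V := B)) a
    simp only [LinearMap.comp_apply, hco, LinearMap.lTensor_tmul, LinearMap.flip_apply, TensorProduct.mk_apply] at h1
    have := congrArg (fun z => TensorProduct.lid k k (ℓ.rTensor k z)) h1
    simpa [hℓ] using this
  · have h1 := LinearMap.congr_fun (HopfRep.Comod.coassoc (k := k) (A := A) (V := B)) a
    simp only [LinearMap.comp_apply, hco, LinearMap.lTensor_tmul, LinearMap.rTensor_tmul,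
      LinearEquiv.coe_coe, TensorProduct.assoc_tmul] at h1
    have := congrArg (fun z => TensorProduct.lid k (A ⊗[k] A) (ℓ.rTensor (A ⊗[k] A) z)) h1
    simpa [hℓ] using this.symm

omit [IsAlgClosed k] [Algebra.FiniteType k A] [IsReduced A] in
theorem act_of_coact {a : B} {χ : A} (h : ρ a = a ⊗ₜ[k] χ) (φ : A →ₐ[k] k) :
    HopfRep.Comod.act k A B φ a = φ χ • a := by
  rw [act_eq_evR, h, Units.evR_tmul]

variable [IsDomain B] [UniqueFactorizationMonoid B]

omit [IsAlgClosed k] [Algebra.FiniteType k A] [IsReduced A] in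
/-- Coprime numerator and denominator of an invariant fraction move by a unit. -/
theorem exists_unit {a b : B} (ha : a ≠ 0) (hab : IsRelPrime a b)
    (hinv : ∀ φ : A →ₐ[k] k, HopfRep.Comod.act k A B φ a * b = a * HopfRep.Comod.act k A B φ b) (φ : A →ₐ[k] k) :
    ∃ u : Bˣ, HopfRep.Comod.act k A B φ a = u * a ∧ HopfRep.Comod.act k A B φ b = u * b := by
  have hdvd : ∀ ψ : A →ₐ[k] k, a ∣ HopfRep.Comod.act k A B ψ a := fun ψ =>
    hab.dvd_of_dvd_mul_right ⟨_, hinv ψ⟩
  obtain ⟨v, hv⟩ := hdvd φ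
  obtain ⟨w, hw⟩ := hdvd ((WithConv.toConv φ)⁻¹).ofConv
  have h1 := act_inv_act φ a
  rw [hw, act_map_mul, hv, mul_assoc] at h1
  have hu : IsUnit v := IsUnit.of_mul_eq_one _ (mul_left_cancel₀ ha (h1.trans (mul_one a).symm))
  obtain ⟨u, rfl⟩ := hu
  refine ⟨u, by rw [hv, mul_comm], mul_left_cancel₀ ha ?_⟩
  rw [← hinv φ, hv]
  ring

/-- On a connected group, points move coprime numerator and denominator by scalars. -/
theorem exists_scalar [IsDomain A] [Algebra.FiniteType k B] {a b : B} (ha : a ≠ 0) (hab : IsRelPrime a b)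
    (hinv : ∀ φ : A →ₐ[k] k, HopfRep.Comod.act k A B φ a * b = a * HopfRep.Comod.act k A B φ b) (φ : A →ₐ[k] k) :
    ∃ c : k, HopfRep.Comod.act k A B φ a = c • a ∧ HopfRep.Comod.act k A B φ b = c • b := by
  choose u hua hub using exists_unit ha hab hinv
  let I : Submodule k B := (Ideal.span {a}).restrictScalars k
  let f : B →ₗ[k] B := LinearMap.mulLeft k a
  let q : B →ₗ[k] B ⧸ I := I.mkQ
  have hex : Function.Exact f q := fun y => by
    rw [Submodule.mkQ_apply, Submodule.Quotient.mk_eq_zero]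
    show y ∈ Ideal.span {a} ↔ _
    rw [Ideal.mem_span_singleton']
    exact ⟨fun ⟨c, hc⟩ => ⟨c, by show a * c = y; rw [mul_comm, hc]⟩, fun ⟨c, hc⟩ => ⟨c, by rw [mul_comm]; exact hc⟩⟩
  obtain ⟨v, hv⟩ : ρ a ∈ LinearMap.range (f.rTensor A) := by
    refine LinearMap.mem_range.2 ((rTensor_exact A hex (Submodule.mkQ_surjective I) _).1 ?_)
    rw [← sub_zero (q.rTensor A (ρ a))]
    have hmul : q.rTensor A (ρ a) = 0 := eq_of_lc fun ℓ => by
      rw [map_zero]
      refine eq_zero_of_points (k := k) fun ψ => ?_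
      show ψ.toLinearMap _ = 0
      rw [apply_lc, rc_rTensor, ← evR_eq_rc, ← act_eq_evR, hua,
        show q ((u ψ : B) * a) = 0 from (Submodule.Quotient.mk_eq_zero I).2
          (Ideal.mul_mem_left _ _ (Ideal.mem_span_singleton_self a)), map_zero]
    rw [hmul, sub_zero]
  have hev : ∀ ψ : A →ₐ[k] k, Units.evR ψ v = u ψ := fun ψ => mul_left_cancel₀ ha (by
    rw [mul_comm a (u ψ : B), ← hua, act_eq_evR, ← hv, evR_eq_rc, evR_eq_rc, rc_rTensor]
    rfl)
  have hvu : IsUnit v := by
    rw [← Ideal.span_singleton_eq_top]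
    by_contra hne
    haveI : Algebra.FiniteType k (B ⊗[k] A) := Algebra.FiniteType.trans (S := B) inferInstance inferInstance
    obtain ⟨z, hz⟩ := LinRed34.exists_point (k := k) _ hne
    let ψ : A →ₐ[k] k := z.comp Algebra.TensorProduct.includeRight
    let y : B →ₐ[k] k := z.comp Algebra.TensorProduct.includeLeft
    have hz' : ∀ w : B ⊗[k] A, z w = y (Units.evR ψ w) := fun w => by
      induction w with
      | zero => simp
      | tmul p q =>
        rw [Units.evR_tmul, map_smul, smul_eq_mul, mul_comm]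
        show z (p ⊗ₜ q) = z (p ⊗ₜ (1 : A)) * z ((1 : B) ⊗ₜ q)
        rw [← map_mul, Algebra.TensorProduct.tmul_mul_tmul, mul_one, one_mul]
      | add p q hp hq => simp only [map_add, hp, hq]
    have h0 := hz v (Ideal.mem_span_singleton_self v)
    rw [hz', hev] at h0
    exact ((u ψ).isUnit.map y).ne_zero h0
  obtain ⟨c, hc⟩ := Units.evR_proportional v hvu (Bialgebra.counitAlgHom k A) φ
  rw [hev, hev] at hc
  have he : (u (Bialgebra.counitAlgHom k A) : B) = 1 := mul_right_cancel₀ ha (by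
    rw [← hua, one_mul]
    exact LinearMap.congr_fun (act_one (k := k) (A := A) (V := B)) a)
  rw [he] at hc
  exact ⟨c, by rw [hua, hc, smul_mul_assoc, one_mul], by rw [hub, hc, smul_mul_assoc, one_mul]⟩

section CharGroup

variable (k A : Type u) [Field k] [IsAlgClosed k] [CommRing A] [HopfAlgebra k A] [Algebra.FiniteType k A] [IsReduced A]

/-- Group-like units of a reduced algebraic group form a finitely generated group. -/
theorem fg_chars : Group.FG (Zeta24.grpLikeUnits (Bialgebra.comulAlgHom k A)) := by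
  classical
  set H := Zeta24.grpLikeUnits (Bialgebra.comulAlgHom k A)
  haveI : Nontrivial A := Bialgebra.nontrivial (R := k) (A := A)
  haveI : IsNoetherianRing A := Algebra.FiniteType.isNoetherianRing k A
  haveI : Finite (minimalPrimes A) := (minimalPrimes.finite_of_isNoetherianRing A).to_subtype
  haveI hP : ∀ P : minimalPrimes A, (P : Ideal A).IsPrime := fun P => P.2.1.1
  choose ι hι φ hφ using fun P : minimalPrimes A => Crv77.exists_units_hom k (A ⧸ (P : Ideal A))
  let m : ∀ P : minimalPrimes A, H →* (A ⧸ (P : Ideal A))ˣ := fun P =>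
    (Units.map (Ideal.Quotient.mk (P : Ideal A)).toMonoidHom).comp H.subtype
  let Φ : H →* ((P : minimalPrimes A) → Multiplicative (ι P → ℤ)) := MonoidHom.pi fun P => (φ P).comp (m P)
  have hconst : ∀ (g : Φ.ker) (P : minimalPrimes A), ∃ c : k,
      algebraMap k (A ⧸ (P : Ideal A)) c = Ideal.Quotient.mk (P : Ideal A) (((g : H) : Aˣ) : A) := by
    intro g P
    have hint := hφ P (m P g) (congrFun (MonoidHom.mem_ker.1 g.2) P)
    exact minpoly.mem_range_of_degree_eq_one k _ (IsAlgClosed.degree_eq_one_of_irreducible k (minpoly.irreducible hint))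
  choose c hc using hconst
  have hli : LinearIndependent k fun g : Φ.ker => (((g : H) : Aˣ) : A) :=
    (Zeta24.linearIndependent_grpLike (Bialgebra.comulAlgHom k A)).comp (fun g : Φ.ker => (g : H)) Subtype.val_injective
  haveI : Finite Φ.ker := by
    have hli2 : LinearIndependent k fun g : Φ.ker => c g := by
      rw [linearIndependent_iff'] at hli ⊢
      intro s w hw i hi
      refine hli s w ?_ i hi
      rw [← Ideal.mem_bot, show (⊥ : Ideal A) = nilradical A from (nilradical_eq_zero A).symm, nilradical,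
        ← Ideal.sInf_minimalPrimes, Submodule.mem_sInf]
      intro P hP
      rw [← Ideal.Quotient.eq_zero_iff_mem, map_sum]
      have h1 := congrArg (algebraMap k (A ⧸ P)) (congrFun hw ⟨P, hP⟩)
      simp only [Finset.sum_apply, Pi.smul_apply, smul_eq_mul, map_sum, map_mul, Pi.zero_apply, map_zero, hc] at h1
      refine Eq.trans (Finset.sum_congr rfl fun g _ => ?_) h1
      rw [Algebra.smul_def, map_mul]
      exact congrArg₂ (· * ·) rfl (hc g ⟨P, hP⟩).symm
    exact hli2.finite
  suffices h : Module.Finite ℤ (Additive H) by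
    exact GroupFG.iff_add_fg.2 (Module.Finite.iff_addGroup_fg.1 h)
  let Φa : Additive H →ₗ[ℤ] ((P : minimalPrimes A) → ι P → ℤ) :=
    (AddMonoidHom.mk' (fun g P => (Φ g.toMul P).toAdd) fun a b => funext fun P => by
      simp [toMul_add]).toIntLinearMap
  haveI : Finite (LinearMap.ker Φa) := Finite.of_injective
    (fun g => (⟨(g : Additive H).toMul, funext fun P =>
      Multiplicative.toAdd.injective (congrFun (LinearMap.mem_ker.1 g.2) P)⟩ : Φ.ker))
    fun a b h => Subtype.ext (congrArg (fun z : Φ.ker => Additive.ofMul (z : H)) h)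
  haveI : ∀ P, Finite (ι P) := hι
  haveI : Finite (LinearMap.ker Φa.rangeRestrict) := by rw [LinearMap.ker_rangeRestrict]; infer_instance
  exact Module.Finite.of_exact (LinearMap.exact_subtype_ker_map Φa.rangeRestrict) Φa.surjective_rangeRestrict

end CharGroup

/-- In a finitely generated abelian group a submonoid has an element cofinal in it. -/
theorem exists_cofinal {H : Type u} [CommGroup H] [Group.FG H] (M : Submonoid H) :
    ∃ η ∈ M, ∀ χ ∈ M, ∃ t : ℕ, η ^ t * χ⁻¹ ∈ M := by
  classical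
  haveI : Module.Finite ℤ (Additive H) := Module.Finite.iff_addGroup_fg.2 (GroupFG.iff_add_fg.1 inferInstance)
  obtain ⟨T, hTM, hT⟩ := Submodule.fg_span_iff_fg_span_finset_subset (Additive.ofMul '' (M : Set H))
    |>.1 (IsNoetherian.noetherian (Submodule.span ℤ (Additive.ofMul '' (M : Set H))))
  have hTmem : ∀ x ∈ T, x.toMul ∈ M := fun x hx => by
    obtain ⟨y, hy, rfl⟩ := hTM hx; exact hy
  let η : H := ∏ x ∈ T, x.toMul
  have hη : η ∈ M := M.prod_mem hTmem
  refine ⟨η, hη, fun χ hχ => ?_⟩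
  have key : ∀ y : Additive H, y ∈ Submodule.span ℤ (T : Set (Additive H)) →
      ∃ t : ℕ, η ^ t * y.toMul ∈ M ∧ η ^ t * y.toMul⁻¹ ∈ M := by
    intro y hy
    rw [← Submodule.mem_toAddSubgroup, Submodule.span_int_eq_addSubgroupClosure] at hy
    induction hy using AddSubgroup.closure_induction with
    | mem x hx =>
      refine ⟨1, ?_, ?_⟩
      · rw [pow_one]; exact M.mul_mem hη (hTmem x hx)
      · rw [pow_one, show η = x.toMul * ∏ z ∈ T.erase x, z.toMul from (Finset.mul_prod_erase T _ hx).symm,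
          mul_comm x.toMul, mul_inv_cancel_right]
        exact M.prod_mem fun z hz => hTmem z (Finset.mem_of_mem_erase hz)
    | zero => exact ⟨0, by simp [M.one_mem], by simp [M.one_mem]⟩
    | add p q _ _ hp hq =>
      obtain ⟨t, ht, ht'⟩ := hp
      obtain ⟨t₂, ht₂, ht₂'⟩ := hq
      refine ⟨t + t₂, ?_, ?_⟩
      · rw [pow_add, toMul_add, mul_mul_mul_comm]; exact M.mul_mem ht ht₂
      · rw [pow_add, toMul_add, mul_inv, mul_mul_mul_comm]; exact M.mul_mem ht' ht₂'
    | neg p _ hp =>
      obtain ⟨t, ht, ht'⟩ := hp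
      exact ⟨t, ht', by rw [toMul_neg, inv_inv]; exact ht⟩
  obtain ⟨t, -, ht⟩ := key (Additive.ofMul χ) (hT ▸ Submodule.subset_span ⟨χ, hχ, rfl⟩)
  exact ⟨t, ht⟩

end Groth.Agent.FinGrp34.SemiInvFrac
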