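import Groth.Agent.LinRed34.Ring
import Mathlib.RingTheory.Flat.Basic

/-!
Untwisting of the coaction of any affine group scheme.
-/

universe u v

open TensorProduct HopfRep

noncomputable section

namespace Groth.Agent.FinGrp34

variable {k : Type u} [Field k] {H : Type u} [CommRing H] [HopfAlgebra k H]
variable (R : Type u) [CommRing R] [Algebra k R] [Comod k H R] [GLin.IsCoactAlg k H R]

variable (k H) in
/-- The untwisting automorphism `r ⊗ a ↦ ρ(r) (1 ⊗ a)`. -/
def shear' : R ⊗[k] H ≃ₐ[k] R ⊗[k] H :=
  AlgEquiv.ofAlgHom
    (Algebra.TensorProduct.productMap (GLin.coactAlgHom k H R) Algebra.TensorProduct.includeRight)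
    (Algebra.TensorProduct.productMap
      ((Algebra.TensorProduct.map (AlgHom.id k R) (HopfAlgebra.antipodeAlgHom k H)).comp (GLin.coactAlgHom k H R))
      Algebra.TensorProduct.includeRight)
    (Algebra.TensorProduct.ext (AlgHom.ext fun r => by
      simp only [AlgHom.comp_apply, Algebra.TensorProduct.includeLeft_apply,
        Algebra.TensorProduct.productMap_apply_tmul, map_one, mul_one, GLin.coactAlgHom_apply, AlgHom.id_apply]
      refine Eq.trans ?_ (LinRed34.untwist (k := k) (A := H) r)
      generalize Comod.coact (k := k) (A := H) r = z
      induction z with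
      | zero => simp
      | add p q hp hq => simp only [map_add, hp, hq]
      | tmul p a => simp)
      (AlgHom.ext fun a => by simp [GLin.IsCoactAlg.coact_one]))
    (Algebra.TensorProduct.ext (AlgHom.ext fun r => by
      simp only [AlgHom.comp_apply, Algebra.TensorProduct.includeLeft_apply,
        Algebra.TensorProduct.productMap_apply_tmul, map_one, mul_one, GLin.coactAlgHom_apply, AlgHom.id_apply]
      have e : ∀ z : R ⊗[k] H, (Algebra.TensorProduct.productMap
          ((Algebra.TensorProduct.map (AlgHom.id k R) (HopfAlgebra.antipodeAlgHom k H)).comp (GLin.coactAlgHom k H R))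
          Algebra.TensorProduct.includeRight) z =
          (LinearMap.mul' k H ∘ₗ (HopfAlgebraStruct.antipode (R := k) (A := H)).rTensor H).lTensor R
            (TensorProduct.assoc k R H H ((Comod.coact (k := k) (A := H)).rTensor H z)) := by
        intro z
        induction z with
        | zero => simp
        | add p q hp hq => simp only [map_add, hp, hq]
        | tmul p a =>
          simp only [Algebra.TensorProduct.productMap_apply_tmul, AlgHom.comp_apply, GLin.coactAlgHom_apply,
            LinearMap.rTensor_tmul, Algebra.TensorProduct.includeRight_apply]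
          generalize Comod.coact (k := k) (A := H) p = w
          induction w with
          | zero => simp
          | add p q hp hq => simp only [map_add, add_mul, TensorProduct.add_tmul, hp, hq]
          | tmul c d => simp
      have h := LinearMap.congr_fun (Comod.coassoc (k := k) (A := H) (V := R)) r
      simp only [LinearMap.comp_apply, LinearEquiv.coe_coe] at h
      have h2 := LinearMap.congr_fun (Comod.counit_comp (k := k) (A := H) (V := R)) r
      simp only [LinearMap.comp_apply] at h2
      rw [e, h, ← LinearMap.comp_apply (LinearMap.lTensor R _), ← LinearMap.lTensor_comp, LinearMap.comp_assoc,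
        HopfAlgebra.mul_antipode_rTensor_comul, LinearMap.lTensor_comp, LinearMap.comp_apply, h2]
      simp)
      (AlgHom.ext fun a => by simp [GLin.IsCoactAlg.coact_one]))

theorem shear'_tmul_one (r : R) : shear' k H R (r ⊗ₜ[k] (1 : H)) = Comod.coact (k := k) (A := H) r := by
  simp [shear', ← Algebra.TensorProduct.one_def]

end Groth.Agent.FinGrp34
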