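import Mathlib.RingTheory.Etale.Basic
import Mathlib.RingTheory.RingHom.Flat
import Mathlib.RingTheory.Smooth.Flat

/-!
Base change of a cartesian étale square along a closed subscheme of one corner.
-/

universe u

open TensorProduct

namespace Groth.Agent.FinGrp34.StrongQuot

theorem etale_quot {S R S₀ R₀ : Type u} [CommRing S] [CommRing R] [CommRing S₀] [CommRing R₀]
    [Algebra S R] [Algebra S₀ S] [Algebra S₀ R₀] [Algebra R₀ R] [Algebra S₀ R]
    [IsScalarTower S₀ S R] [IsScalarTower S₀ R₀ R] [Algebra.Etale S₀ R₀]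
    (hcart : Function.Bijective (Algebra.TensorProduct.productMap (IsScalarTower.toAlgHom S₀ S R) (IsScalarTower.toAlgHom S₀ R₀ R)))
    (J : Ideal S) (S₁ R₁ : Type u) [CommRing S₁] [CommRing R₁]
    [Algebra S₀ S₁] [Algebra S₁ (S ⧸ J)] [IsScalarTower S₀ S₁ (S ⧸ J)]
    (hS₁i : Function.Injective (algebraMap S₁ (S ⧸ J)))
    [Algebra S₁ R₁] [Algebra R₁ (R ⧸ J.map (algebraMap S R))] [Algebra S₁ (R ⧸ J.map (algebraMap S R))]
    [IsScalarTower S₁ (S ⧸ J) (R ⧸ J.map (algebraMap S R))] [IsScalarTower S₁ R₁ (R ⧸ J.map (algebraMap S R))]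
    (γ : R₀ →+* R₁) (hγ : Function.Surjective γ)
    (hγ' : ∀ r, algebraMap R₁ (R ⧸ J.map (algebraMap S R)) (γ r) = Ideal.Quotient.mk _ (algebraMap R₀ R r))
    (hR₁i : Function.Injective (algebraMap R₁ (R ⧸ J.map (algebraMap S R)))) :
    Algebra.Etale (S ⧸ J) (R ⧸ J.map (algebraMap S R)) ∧ Algebra.Etale S₁ R₁ ∧
      Function.Bijective (Algebra.TensorProduct.productMap
        (IsScalarTower.toAlgHom S₁ (S ⧸ J) (R ⧸ J.map (algebraMap S R)))
        (IsScalarTower.toAlgHom S₁ R₁ (R ⧸ J.map (algebraMap S R)))) := by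
  let W := R ⧸ J.map (algebraMap S R)
  let P := Algebra.TensorProduct.productMap (IsScalarTower.toAlgHom S₀ S R) (IsScalarTower.toAlgHom S₀ R₀ R)
  haveI : IsScalarTower S₀ (S ⧸ J) W := IsScalarTower.of_algebraMap_eq fun z => by
    show Ideal.Quotient.mk _ (algebraMap S₀ R z) = Ideal.Quotient.mk _ (algebraMap S R (algebraMap S₀ S z))
    rw [← IsScalarTower.algebraMap_apply]
  let i₀ : R₀ →ₐ[S₀] W := (Ideal.Quotient.mkₐ S₀ _).comp (IsScalarTower.toAlgHom S₀ R₀ R)
  let θ : (S ⧸ J) ⊗[S₀] R₀ →ₐ[S ⧸ J] W := Algebra.TensorProduct.lift (Algebra.ofId _ _) i₀ fun _ _ => Commute.all _ _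
  have hθ : ∀ (q : S ⧸ J) (r : R₀), θ (q ⊗ₜ[S₀] r) = algebraMap (S ⧸ J) W q * i₀ r := fun q r =>
    Algebra.TensorProduct.lift_tmul _ _ _ q r
  let M : S ⊗[S₀] R₀ →ₐ[S₀] (S ⧸ J) ⊗[S₀] R₀ :=
    Algebra.TensorProduct.map (Ideal.Quotient.mkₐ S₀ J) (AlgHom.id S₀ R₀)
  have hθM : ∀ t, θ (M t) = Ideal.Quotient.mk _ (P t) := fun t => by
    induction t using TensorProduct.induction_on with
    | zero => simp
    | tmul s r =>
      show θ (Ideal.Quotient.mk J s ⊗ₜ[S₀] r) = _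
      rw [hθ, show P (s ⊗ₜ[S₀] r) = algebraMap S R s * algebraMap R₀ R r from
        Algebra.TensorProduct.productMap_apply_tmul _ _ _ _, map_mul]
      rfl
    | add p q hp hq => simp only [map_add, hp, hq]
  have hMs : Function.Surjective M := fun t => by
    induction t using TensorProduct.induction_on with
    | zero => exact ⟨0, map_zero _⟩
    | tmul q r =>
      obtain ⟨s, rfl⟩ := Ideal.Quotient.mk_surjective q
      exact ⟨s ⊗ₜ[S₀] r, rfl⟩
    | add p q hp hq =>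
      obtain ⟨a, rfl⟩ := hp
      obtain ⟨b, rfl⟩ := hq
      exact ⟨a + b, map_add _ _ _⟩
  let eP := RingEquiv.ofBijective P.toRingHom hcart
  let ν : R →+* (S ⧸ J) ⊗[S₀] R₀ := M.toRingHom.comp eP.symm.toRingHom
  have hν : ∀ t, ν (P t) = M t := fun t => congrArg M (eP.symm_apply_apply t)
  have hJν : ∀ z ∈ J.map (algebraMap S R), ν z = 0 := fun z hz => by
    suffices J.map (algebraMap S R) ≤ RingHom.ker ν from this hz
    refine Ideal.map_le_iff_le_comap.2 fun s hs => ?_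
    have h1 : algebraMap S R s = P (s ⊗ₜ[S₀] (1 : R₀)) := by simp [P]
    show ν (algebraMap S R s) = 0
    rw [h1, hν]
    show Ideal.Quotient.mk J s ⊗ₜ[S₀] (1 : R₀) = 0
    rw [Ideal.Quotient.eq_zero_iff_mem.2 hs, TensorProduct.zero_tmul]
  have hθbij : Function.Bijective θ := by
    refine ⟨Function.LeftInverse.injective (g := Ideal.Quotient.lift _ ν hJν) fun t => ?_, fun w => ?_⟩
    · obtain ⟨u, rfl⟩ := hMs t
      rw [hθM, Ideal.Quotient.lift_mk, hν]
    · obtain ⟨r, rfl⟩ := Ideal.Quotient.mk_surjective w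
      obtain ⟨u, rfl⟩ := hcart.2 r
      exact ⟨M u, hθM u⟩
  refine ⟨Algebra.Etale.of_equiv (AlgEquiv.ofBijective θ hθbij), ?_, ?_⟩
  · -- the invariant corner
    let j : S₁ ⊗[S₀] R₀ →ₐ[S₀] (S ⧸ J) ⊗[S₀] R₀ :=
      Algebra.TensorProduct.map (IsScalarTower.toAlgHom S₀ S₁ (S ⧸ J)) (AlgHom.id S₀ R₀)
    have hj : Function.Injective j :=
      Module.Flat.rTensor_preserves_injective_linearMap (M := R₀) (IsScalarTower.toAlgHom S₀ S₁ (S ⧸ J)).toLinearMap hS₁i
    letI : Algebra S₀ R₁ := ((algebraMap S₁ R₁).comp (algebraMap S₀ S₁)).toAlgebra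
    haveI : IsScalarTower S₀ S₁ R₁ := IsScalarTower.of_algebraMap_eq fun _ => rfl
    have hS₁W : ∀ z : S₁, algebraMap R₁ W (algebraMap S₁ R₁ z) = algebraMap (S ⧸ J) W (algebraMap S₁ (S ⧸ J) z) :=
      fun z => by rw [← IsScalarTower.algebraMap_apply, ← IsScalarTower.algebraMap_apply]
    let γ' : R₀ →ₐ[S₀] R₁ :=
      { γ with
        commutes' := fun z => hR₁i (by
          show algebraMap R₁ W (γ (algebraMap S₀ R₀ z)) = algebraMap R₁ W (algebraMap S₁ R₁ (algebraMap S₀ S₁ z))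
          rw [hS₁W, hγ', ← IsScalarTower.algebraMap_apply S₀ S₁ (S ⧸ J), ← IsScalarTower.algebraMap_apply S₀ R₀ R,
            ← IsScalarTower.algebraMap_apply S₀ (S ⧸ J) W]
          rfl) }
    let δ : S₁ ⊗[S₀] R₀ →ₐ[S₁] R₁ := Algebra.TensorProduct.lift (Algebra.ofId _ _) γ' fun _ _ => Commute.all _ _
    have hδ : ∀ t, algebraMap R₁ W (δ t) = θ (j t) := fun t => by
      induction t using TensorProduct.induction_on with
      | zero => simp
      | tmul z r =>
        show algebraMap R₁ W (δ (z ⊗ₜ[S₀] r)) = θ (algebraMap S₁ (S ⧸ J) z ⊗ₜ[S₀] r)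
        rw [hθ, show δ (z ⊗ₜ[S₀] r) = algebraMap S₁ R₁ z * γ r from Algebra.TensorProduct.lift_tmul _ _ _ z r, map_mul,
          hS₁W, hγ']
        rfl
      | add p q hp hq => simp only [map_add, hp, hq]
    have hδb : Function.Bijective δ := by
      refine ⟨fun a b h => hj (hθbij.1 (by rw [← hδ, ← hδ, h])), fun w => ?_⟩
      obtain ⟨r, rfl⟩ := hγ w
      exact ⟨(1 : S₁) ⊗ₜ[S₀] r, by
        rw [show δ ((1 : S₁) ⊗ₜ[S₀] r) = algebraMap S₁ R₁ 1 * γ r from Algebra.TensorProduct.lift_tmul _ _ _ _ r,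
          map_one, one_mul]⟩
    exact Algebra.Etale.of_equiv (AlgEquiv.ofBijective δ hδb)
  · set P₁ := Algebra.TensorProduct.productMap
        (IsScalarTower.toAlgHom S₁ (S ⧸ J) W) (IsScalarTower.toAlgHom S₁ R₁ W)
    have hP₁ : ∀ (q : S ⧸ J) (r : R₁), P₁ (q ⊗ₜ[S₁] r) = algebraMap (S ⧸ J) W q * algebraMap R₁ W r :=
      fun q r => Algebra.TensorProduct.productMap_apply_tmul _ _ _ _
    have hγ₀ : ∀ z : S₀, γ (algebraMap S₀ R₀ z) = algebraMap S₁ R₁ (algebraMap S₀ S₁ z) := fun z => hR₁i (by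
      rw [hγ', ← IsScalarTower.algebraMap_apply S₁ R₁ W, IsScalarTower.algebraMap_apply S₁ (S ⧸ J) W,
        ← IsScalarTower.algebraMap_apply S₀ S₁ (S ⧸ J), ← IsScalarTower.algebraMap_apply S₀ R₀ R,
        ← IsScalarTower.algebraMap_apply S₀ (S ⧸ J) W]
      rfl)
    let Ψ : (S ⧸ J) ⊗[S₀] R₀ →+ (S ⧸ J) ⊗[S₁] R₁ := TensorProduct.liftAddHom
      { toFun := fun q =>
          { toFun := fun r => q ⊗ₜ[S₁] γ r
            map_zero' := by rw [map_zero, TensorProduct.tmul_zero]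
            map_add' := fun a b => by rw [map_add, TensorProduct.tmul_add] }
        map_zero' := AddMonoidHom.ext fun r => TensorProduct.zero_tmul _ _
        map_add' := fun a b => AddMonoidHom.ext fun r => TensorProduct.add_tmul _ _ _ }
      (fun z q r => by
        show (z • q) ⊗ₜ[S₁] γ r = q ⊗ₜ[S₁] γ (z • r)
        rw [Algebra.smul_def z r, map_mul, hγ₀, ← Algebra.smul_def, ← TensorProduct.smul_tmul,
          algebraMap_smul])
    have hΨθ : ∀ t, P₁ (Ψ t) = θ t := fun t => by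
      induction t using TensorProduct.induction_on with
      | zero => simp
      | tmul q r =>
        show P₁ (q ⊗ₜ[S₁] γ r) = _
        rw [hP₁, hθ, hγ']
        rfl
      | add p q hp hq => simp only [map_add, hp, hq]
    have hΨs : Function.Surjective Ψ := fun t => by
      induction t using TensorProduct.induction_on with
      | zero => exact ⟨0, map_zero _⟩
      | tmul q r =>
        obtain ⟨r, rfl⟩ := hγ r
        exact ⟨q ⊗ₜ[S₀] r, rfl⟩
      | add p q hp hq =>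
        obtain ⟨a, rfl⟩ := hp
        obtain ⟨b, rfl⟩ := hq
        exact ⟨a + b, map_add _ _ _⟩
    refine ⟨fun a b h => ?_, fun w => ?_⟩
    · obtain ⟨a, rfl⟩ := hΨs a
      obtain ⟨b, rfl⟩ := hΨs b
      rw [hΨθ, hΨθ] at h
      rw [hθbij.1 h]
    · obtain ⟨t, rfl⟩ := hθbij.2 w
      exact ⟨Ψ t, hΨθ t⟩

end Groth.Agent.FinGrp34.StrongQuot
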