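import Groth.Agent.LinRed34.Points
import Groth.Agent.Hopf34.Fin
import Groth.Prelude.Def_HopfRep
import Mathlib.RingTheory.Spectrum.Prime.Chevalley
import Mathlib.RingTheory.Spectrum.Prime.ConstructibleSet
import Mathlib.RingTheory.Jacobson.Ring
import Mathlib.RingTheory.HopfAlgebra.Basic
import Mathlib.RingTheory.Nilpotent.Lemmas

/-!
Spectra of right coideal subalgebras of unipotent groups: every prime lifts.
-/

set_option autoImplicit false

universe u

open TensorProduct

noncomputable section

namespace Groth.Agent.FinGrp34.UnipOrbit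

variable {k : Type u} [Field k] {B : Type u} [CommRing B] [HopfAlgebra k B]

/-- If every non-zero subcomodule of `B` contains `1`, every prime of a finitely generated right coideal
subalgebra lifts. -/
theorem exists_prime_over [IsAlgClosed k] [Algebra.FiniteType k B]
    (hfix : ∀ W : Submodule k B, HopfRep.IsSubcomod (k := k) (A := B) W → W ≠ ⊥ → (1 : B) ∈ W)
    (C : Subalgebra k B) (hfg : C.FG) (hC : HopfRep.IsSubcomod (k := k) (A := B) (Subalgebra.toSubmodule C))
    (P : PrimeSpectrum C) : ∃ Q : PrimeSpectrum B, PrimeSpectrum.comap C.val.toRingHom Q = P := by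
  classical
  haveI : Algebra.FiniteType k C := (Subalgebra.fg_iff_finiteType _).1 hfg
  haveI : IsNoetherianRing C := Algebra.FiniteType.isNoetherianRing k C
  haveI : IsNoetherianRing B := Algebra.FiniteType.isNoetherianRing k B
  haveI : Nontrivial B := (Bialgebra.counitAlgHom k B).toRingHom.domain_nontrivial
  haveI : IsJacobsonRing B := isJacobsonRing_of_finiteType (A := k)
  haveI : IsJacobsonRing C := isJacobsonRing_of_finiteType (A := k)
  -- the coaction on `C`
  let M := Algebra.TensorProduct.map C.val (AlgHom.id k B)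
  have hMinj : Function.Injective M :=
    Module.Flat.rTensor_preserves_injective_linearMap (M := B) C.val.toLinearMap Subtype.val_injective
  have hrange : ∀ c : C, Bialgebra.comulAlgHom k B (c : B) ∈ M.range := fun c => by
    obtain ⟨z, hz⟩ := hC (c : B) c.2
    exact ⟨z, hz⟩
  let ρ : C →ₐ[k] C ⊗[k] B :=
    (AlgEquiv.ofInjective M hMinj).symm.toAlgHom.comp
      (((Bialgebra.comulAlgHom k B).comp C.val).codRestrict M.range hrange)
  have hρ : ∀ c : C, M (ρ c) = Bialgebra.comulAlgHom k B (c : B) := fun c =>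
    congrArg Subtype.val ((AlgEquiv.ofInjective M hMinj).apply_symm_apply _)
  have hcoassoc : ∀ c : C, TensorProduct.assoc k C B B (ρ.toLinearMap.rTensor B (ρ c)) =
      (CoalgebraStruct.comul (R := k) (A := B)).lTensor C (ρ c) := by
    intro c
    refine Module.Flat.rTensor_preserves_injective_linearMap (M := B ⊗[k] B) C.val.toLinearMap Subtype.val_injective ?_
    have e1 : ∀ z : C ⊗[k] B, LinearMap.rTensor (B ⊗[k] B) C.val.toLinearMap
        (TensorProduct.assoc k C B B (ρ.toLinearMap.rTensor B z)) =
        TensorProduct.assoc k B B B ((CoalgebraStruct.comul (R := k) (A := B)).rTensor B (M z)) := by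
      intro z
      induction z with
      | zero => simp
      | add p q hp hq => simp only [map_add, hp, hq]
      | tmul p q =>
        simp only [M, Algebra.TensorProduct.map_tmul, AlgHom.id_apply, LinearMap.rTensor_tmul, Subalgebra.coe_val,
          AlgHom.toLinearMap_apply]
        rw [show CoalgebraStruct.comul (R := k) (A := B) (p : B) = M (ρ p) from (hρ p).symm]
        generalize ρ p = t
        induction t with
        | zero => simp
        | add a b ha hb => simp only [map_add, add_tmul, ha, hb]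
        | tmul a b => simp [M]
    have e2 : ∀ z : C ⊗[k] B, LinearMap.rTensor (B ⊗[k] B) C.val.toLinearMap
        ((CoalgebraStruct.comul (R := k) (A := B)).lTensor C z) =
        (CoalgebraStruct.comul (R := k) (A := B)).lTensor B (M z) := by
      intro z
      induction z with
      | zero => simp
      | add p q hp hq => simp only [map_add, hp, hq]
      | tmul p q => simp [M]
    rw [e1, e2, hρ, Bialgebra.comulAlgHom_apply, Coalgebra.coassoc_apply]
  let φ : (C →ₐ[k] k) → (C →ₐ[k] B) := fun z =>
    (Algebra.TensorProduct.lid k B).toAlgHom.comp ((Algebra.TensorProduct.map z (AlgHom.id k B)).comp ρ)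
  have hφε : ∀ z c, Bialgebra.counitAlgHom k B (φ z c) = z c := by
    intro z c
    have e : ∀ t : C ⊗[k] B, Bialgebra.counitAlgHom k B
        ((Algebra.TensorProduct.lid k B) (Algebra.TensorProduct.map z (AlgHom.id k B) t)) =
        z ((TensorProduct.rid k C) ((CoalgebraStruct.counit (R := k) (A := B)).lTensor C t)) := by
      intro t
      induction t with
      | zero => simp
      | add p q hp hq => simp only [map_add, hp, hq]
      | tmul p q => simp [mul_comm]
    refine (e (ρ c)).trans (congrArg z (Subtype.ext ?_))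
    have e' : ∀ t : C ⊗[k] B, ((TensorProduct.rid k C ((CoalgebraStruct.counit (R := k) (A := B)).lTensor C t) : C) : B) =
        TensorProduct.rid k B ((CoalgebraStruct.counit (R := k) (A := B)).lTensor B (M t)) := by
      intro t
      induction t with
      | zero => simp
      | add p q hp hq => simp only [map_add, Subalgebra.coe_add, hp, hq]
      | tmul p q => simp [M]
    rw [e', hρ, Bialgebra.comulAlgHom_apply, Coalgebra.lTensor_counit_comul]
    simp
  have hΔφ : ∀ z c, Bialgebra.comulAlgHom k B (φ z c) = (φ z).toLinearMap.rTensor B (ρ c) := by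
    intro z c
    let Z : C →ₗ[k] k := z.toLinearMap
    have e1 : ∀ t : C ⊗[k] B, Bialgebra.comulAlgHom k B
        ((Algebra.TensorProduct.lid k B) (Algebra.TensorProduct.map z (AlgHom.id k B) t)) =
        TensorProduct.lid k (B ⊗[k] B) (Z.rTensor (B ⊗[k] B) ((CoalgebraStruct.comul (R := k) (A := B)).lTensor C t)) := by
      intro t
      induction t with
      | zero => simp
      | add p q hp hq => simp only [map_add, hp, hq]
      | tmul p q => simp [Z]
    have e2 : ∀ t : C ⊗[k] B, (φ z).toLinearMap.rTensor B t =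
        TensorProduct.lid k (B ⊗[k] B) (Z.rTensor (B ⊗[k] B) (TensorProduct.assoc k C B B (ρ.toLinearMap.rTensor B t))) := by
      intro t
      induction t with
      | zero => simp
      | add p q hp hq => simp only [map_add, hp, hq]
      | tmul p q =>
        simp only [LinearMap.rTensor_tmul, AlgHom.toLinearMap_apply, φ, AlgHom.comp_apply, AlgEquiv.coe_toAlgHom]
        generalize ρ p = s
        induction s with
        | zero => simp
        | add a b ha hb => simp only [map_add, add_tmul, ha, hb]
        | tmul a b => simp [Z, smul_tmul']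
    rw [e2, hcoassoc, ← e1]
    rfl
  -- the image and a dense open part of it
  let S : Set (PrimeSpectrum C) := Set.range (PrimeSpectrum.comap C.val.toRingHom)
  obtain ⟨D, hD⟩ : ∃ D : PrimeSpectrum.ConstructibleSetData C, D.toSet = S := by
    refine PrimeSpectrum.exists_constructibleSetData_iff.2 (PrimeSpectrum.isConstructible_range_comap ?_)
    let := C.val.toRingHom.toAlgebra
    have : IsScalarTower k C B := IsScalarTower.of_algebraMap_eq fun c => rfl
    have : Algebra.FiniteType C B := .of_restrictScalars_finiteType k C B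
    exact RingHom.FinitePresentation.of_finiteType.1 this
  obtain ⟨h, hnil, hh⟩ : ∃ h : C, ¬ IsNilpotent h ∧ ∀ q : PrimeSpectrum C, h ∉ q.asIdeal → q ∈ S := by
    haveI : Nontrivial C := C.val.toRingHom.domain_nontrivial
    obtain ⟨m, hm⟩ := Ideal.exists_maximal C
    haveI := hm.isPrime
    obtain ⟨p, hp, -⟩ := Ideal.exists_minimalPrimes_le (I := (⊥ : Ideal C)) (J := m) bot_le
    haveI hpp := hp.1.1
    obtain ⟨Q, hQ, -, hQp⟩ := Ideal.exists_comap_eq_of_mem_minimalPrimes (I := (⊥ : Ideal B)) C.val.toRingHom p (by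
      rwa [show Ideal.comap C.val.toRingHom (⊥ : Ideal B) = ⊥ from
        (RingHom.injective_iff_ker_eq_bot _).1 Subtype.val_injective])
    have hmem : (⟨p, hpp⟩ : PrimeSpectrum C) ∈ D.toSet := by
      rw [hD]; exact ⟨⟨Q, hQ⟩, PrimeSpectrum.ext hQp⟩
    simp only [PrimeSpectrum.ConstructibleSetData.toSet, Set.mem_iUnion] at hmem
    obtain ⟨E, hE, hEg, hEf⟩ := hmem
    replace hEf : E.f ∉ p := fun hx => hEf (by simpa [PrimeSpectrum.mem_zeroLocus] using hx)
    replace hEg : ∀ i, E.g i ∈ p := fun i => (PrimeSpectrum.mem_zeroLocus _ _).1 hEg ⟨i, rfl⟩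
    have hy : ∀ y ∈ p, ∃ t ∉ p, IsNilpotent (t * y) := by
      intro y hy
      by_contra hcon
      push Not at hcon
      let N : Submonoid C :=
        { carrier := {s | ∃ t ∉ p, ∃ n : ℕ, s = t * y ^ n}
          mul_mem' := by
            rintro _ _ ⟨t, ht, n, rfl⟩ ⟨t', ht', n', rfl⟩
            exact ⟨t * t', fun hx => (hpp.mem_or_mem hx).elim ht ht', n + n', by rw [pow_add]; ring⟩
          one_mem' := ⟨1, hpp.one_notMem, 0, by simp⟩ }
      have hd : Disjoint ((⊥ : Ideal C) : Set C) (N : Set C) := Set.disjoint_left.2 fun s hs hsN => by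
        obtain ⟨t, ht, n, rfl⟩ := hsN
        refine hcon t ht ⟨n + 1, ?_⟩
        have h0 : t * y ^ n = 0 := hs
        calc (t * y) ^ (n + 1) = (t * y ^ n) * (t ^ n * y) := by ring
          _ = 0 := by rw [h0, zero_mul]
      obtain ⟨p', hp', -, hdis⟩ := Ideal.exists_le_prime_disjoint _ N hd
      have hle' : p' ≤ p := fun s hs => by
        by_contra hx
        exact Set.disjoint_left.1 hdis hs ⟨s, hx, 0, by simp⟩
      exact Set.disjoint_left.1 hdis (hp.2 ⟨hp', bot_le⟩ hle' hy) ⟨1, hpp.one_notMem, 1, by simp⟩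
    choose t ht htn using fun i => hy (E.g i) (hEg i)
    refine ⟨E.f * ∏ i, t i, fun hx => ?_, fun q hq => ?_⟩
    · have h2 : E.f * ∏ i, t i ∈ p := by
        obtain ⟨n, hn⟩ := hx
        exact hpp.mem_of_pow_mem n (hn ▸ zero_mem p)
      rcases hpp.mem_or_mem h2 with h3 | h3
      · exact hEf h3
      · obtain ⟨i, -, hi⟩ := hpp.prod_mem_iff.1 h3
        exact ht i hi
    · rw [← hD]
      simp only [PrimeSpectrum.ConstructibleSetData.toSet, Set.mem_iUnion]
      refine ⟨E, hE, (PrimeSpectrum.mem_zeroLocus _ _).2 ?_, fun hx => hq ?_⟩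
      · rintro _ ⟨i, rfl⟩
        obtain ⟨n, hn⟩ := htn i
        refine ((q.isPrime.mem_or_mem (q.isPrime.mem_of_pow_mem n (hn ▸ zero_mem _))).resolve_left fun hti => hq ?_)
        exact Ideal.mul_mem_left _ _ (Ideal.mem_of_dvd _ (Finset.dvd_prod_of_mem t (Finset.mem_univ i)) hti)
      · exact Ideal.mul_mem_right _ _ ((PrimeSpectrum.mem_zeroLocus _ _).1 hx (Set.mem_singleton _))
  -- points of `B` and of `C`
  have hpt : ∀ {R : Type u} [CommRing R] [Algebra k R] (z : R →ₐ[k] k), (RingHom.ker z).IsMaximal := fun z =>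
    RingHom.ker_isMaximal_of_surjective z.toRingHom fun c => ⟨algebraMap k _ c, z.commutes c⟩
  have hlift : ∀ z : C →ₐ[k] k, (⟨RingHom.ker z, (hpt z).isPrime⟩ : PrimeSpectrum C) ∈ S →
      ∃ g : B →ₐ[k] k, g.comp C.val = z := by
    rintro z ⟨Q, hQ⟩
    obtain ⟨g, hg⟩ := LinRed34.exists_point (k := k) Q.asIdeal Q.isPrime.ne_top
    refine ⟨g, AlgHom.ext fun c => ?_⟩
    have hmem : c - algebraMap k C (z c) ∈ Q.asIdeal.comap C.val.toRingHom := by
      rw [show Q.asIdeal.comap C.val.toRingHom = RingHom.ker z from congrArg PrimeSpectrum.asIdeal hQ, RingHom.mem_ker,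
        map_sub, AlgHom.commutes]
      simp
    have h0 := hg _ hmem
    simpa [sub_eq_zero] using h0
  have horb : ∀ (z : C →ₐ[k] k) (g g' : B →ₐ[k] k), g'.comp C.val = g.comp (φ z) →
      ∃ g'' : B →ₐ[k] k, g''.comp C.val = z := by
    intro z g g' he
    let gi : B →ₐ[k] k := g.comp (HopfAlgebra.antipodeAlgHom k B)
    let conv : (B →ₐ[k] k) → B →ₐ[k] k := fun a =>
      (Algebra.TensorProduct.lift a gi fun _ _ => Commute.all _ _).comp (Bialgebra.comulAlgHom k B)
    have hgg : ∀ b, conv g b = Bialgebra.counitAlgHom k B b := by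
      intro b
      have e : ∀ t : B ⊗[k] B, Algebra.TensorProduct.lift g gi (fun _ _ => Commute.all _ _) t =
          g (LinearMap.mul' k B ((HopfAlgebraStruct.antipode (R := k) (A := B)).lTensor B t)) := by
        intro t
        induction t with
        | zero => simp
        | add p q hp hq => simp only [map_add, hp, hq]
        | tmul p q => simp [gi]
      refine (e _).trans ?_
      refine (congrArg g (HopfAlgebra.mul_antipode_lTensor_comul_apply (R := k) b)).trans ?_
      simp
    refine ⟨conv g', AlgHom.ext fun c => ?_⟩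
    rw [← hφε z c, ← hgg (φ z c)]
    show Algebra.TensorProduct.lift g' gi (fun _ _ => Commute.all _ _) (Bialgebra.comulAlgHom k B (c : B)) =
      Algebra.TensorProduct.lift g gi (fun _ _ => Commute.all _ _) (Bialgebra.comulAlgHom k B (φ z c))
    rw [← hρ, hΔφ]
    generalize ρ c = t
    induction t with
    | zero => simp
    | add p q hp hq => simp only [map_add, hp, hq]
    | tmul p q =>
      simp only [M, Algebra.TensorProduct.map_tmul, AlgHom.id_apply, LinearMap.rTensor_tmul,
        AlgHom.toLinearMap_apply, Algebra.TensorProduct.lift_tmul]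
      rw [show g' (C.val p) = g (φ z p) from DFunLike.congr_fun he p]
  -- no point lies outside the image
  have hall : ∀ z : C →ₐ[k] k, (⟨RingHom.ker z, (hpt z).isPrime⟩ : PrimeSpectrum C) ∈ S := by
    by_contra hne
    push Not at hne
    obtain ⟨z₀, hz₀⟩ := hne
    obtain ⟨N, hN⟩ := IsNoetherianRing.isNilpotent_nilradical B
    let W : Submodule k B := (⨅ (z : C →ₐ[k] k) (_ : (⟨RingHom.ker z, (hpt z).isPrime⟩ : PrimeSpectrum C) ∉ S),
      LinearMap.ker (φ z).toLinearMap).map C.val.toLinearMap
    have hW : HopfRep.IsSubcomod (k := k) (A := B) W := by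
      rintro _ ⟨c, hc, rfl⟩
      rw [Hopf34.mem_range_rTensor_iff]
      intro ψ
      refine ⟨Hopf34.sl ψ (ρ c), ?_, ?_⟩
      · rw [SetLike.mem_coe, Submodule.mem_iInf]
        intro z
        rw [Submodule.mem_iInf]
        intro hz
        rw [LinearMap.mem_ker, ← Hopf34.sl_rTensor, ← hΔφ]
        have : φ z c = 0 := by
          have h1 := (Submodule.mem_iInf _).1 hc z
          exact (Submodule.mem_iInf _).1 h1 hz
        rw [this, map_zero, map_zero]
      · rw [← Hopf34.sl_rTensor]
        exact congrArg (Hopf34.sl ψ) (hρ c)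
    have hmemW : (h : B) ^ N ∈ W := by
      refine ⟨h ^ N, ?_, map_pow C.val h N⟩
      rw [SetLike.mem_coe, Submodule.mem_iInf]
      intro z
      rw [Submodule.mem_iInf]
      intro hz
      show φ z (h ^ N) = 0
      rw [map_pow]
      have hnilz : φ z h ∈ nilradical B := by
        rw [mem_nilradical, nilpotent_iff_mem_prime]
        intro J hJ
        by_contra hxJ
        obtain ⟨m, ⟨hJm, hm⟩, hxm⟩ : ∃ m, (J ≤ m ∧ m.IsMaximal) ∧ φ z h ∉ m := by
          have : φ z h ∉ J.jacobson := by rwa [← Ideal.radical_eq_jacobson, hJ.radical]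
          rw [Ideal.jacobson, Ideal.mem_sInf] at this
          push Not at this
          exact this
        obtain ⟨g, hg⟩ := LinRed34.exists_point (k := k) m hm.ne_top
        have hgx : g (φ z h) ≠ 0 := fun h0 => hxm (by
          rw [hm.eq_of_le (RingHom.ker_ne_top g) fun b hb => RingHom.mem_ker.2 (hg b hb)]
          exact RingHom.mem_ker.2 h0)
        obtain ⟨g', hg'⟩ := hlift (g.comp (φ z)) (hh _ fun hmem => hgx (RingHom.mem_ker.1 hmem))
        obtain ⟨g'', hg''⟩ := horb z g g' hg'
        refine hz ⟨⟨RingHom.ker g'', (hpt g'').isPrime⟩, PrimeSpectrum.ext ?_⟩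
        rw [← hg'']
        rfl
      have := Ideal.pow_mem_pow hnilz N
      rwa [hN] at this
    have hWne : W ≠ ⊥ := fun hbot => hnil ⟨N, Subtype.ext (by
      have : (h : B) ^ N = 0 := by simpa [hbot] using hmemW
      simpa using this)⟩
    obtain ⟨c, hc, hc1⟩ := hfix W hW hWne
    have h1 : φ z₀ c = 0 := (Submodule.mem_iInf _).1 ((Submodule.mem_iInf _).1 hc z₀) hz₀
    rw [show c = 1 from Subtype.ext hc1, map_one] at h1
    exact one_ne_zero h1
  -- hence no prime does
  by_contra hP
  have hP' : P ∈ Sᶜ := hP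
  obtain ⟨T, hT⟩ := PrimeSpectrum.exists_constructibleSetData_iff.2
    (PrimeSpectrum.exists_constructibleSetData_iff.1 ⟨D, hD⟩).compl
  rw [← hT] at hP'
  simp only [PrimeSpectrum.ConstructibleSetData.toSet, Set.mem_iUnion] at hP'
  obtain ⟨E, hE, hEg, hEf⟩ := hP'
  replace hEf : E.f ∉ P.asIdeal := fun hx => hEf (by simpa [PrimeSpectrum.mem_zeroLocus] using hx)
  obtain ⟨m, ⟨hPm, hm⟩, hfm⟩ : ∃ m, (P.asIdeal ≤ m ∧ m.IsMaximal) ∧ E.f ∉ m := by
    have : E.f ∉ P.asIdeal.jacobson := by rwa [← Ideal.radical_eq_jacobson, P.isPrime.radical]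
    rw [Ideal.jacobson, Ideal.mem_sInf] at this
    push Not at this
    exact this
  obtain ⟨z, hz⟩ := LinRed34.exists_point (k := k) m hm.ne_top
  have hmz : m = RingHom.ker z := hm.eq_of_le (RingHom.ker_ne_top z) fun b hb => RingHom.mem_ker.2 (hz b hb)
  have hmem : (⟨RingHom.ker z, (hpt z).isPrime⟩ : PrimeSpectrum C) ∈ T.toSet := by
    simp only [PrimeSpectrum.ConstructibleSetData.toSet, Set.mem_iUnion]
    refine ⟨E, hE, (PrimeSpectrum.mem_zeroLocus _ _).2 ?_, fun hx => hfm ?_⟩
    · rintro _ ⟨i, rfl⟩
      exact hmz ▸ hPm ((PrimeSpectrum.mem_zeroLocus _ _).1 hEg ⟨i, rfl⟩)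
    · rw [hmz]; exact (PrimeSpectrum.mem_zeroLocus _ _).1 hx (Set.mem_singleton _)
  rw [hT] at hmem
  exact hmem (hall z)

end Groth.Agent.FinGrp34.UnipOrbit
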